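import Mathlib
import Cfsg.Prelude.Def_Transfer

/-!
Minimal covers of a finite group by proper subgroups, with nilpotent members.

`Cover 𝓐`: proper subgroups covering `G`; `IsMinNilCover 𝓐`: of least size, all members nilpotent.
Replacing two members inside one proper subgroup `M` by `M` is impossible (`false_of_two_le`).
-/

set_option autoImplicit false

namespace Cfsg.Agent.Cover

open scoped Pointwise

variable {G : Type*} [Group G]

/-- A finite family of proper subgroups covering `G`. -/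
def IsCover (𝓐 : Finset (Subgroup G)) : Prop := (∀ A ∈ 𝓐, A ≠ ⊤) ∧ ∀ g : G, ∃ A ∈ 𝓐, g ∈ A

/-- A cover of least size all whose members are nilpotent. -/
def IsMinNilCover (𝓐 : Finset (Subgroup G)) : Prop :=
  IsCover 𝓐 ∧ (∀ 𝓑 : Finset (Subgroup G), IsCover 𝓑 → 𝓐.card ≤ 𝓑.card) ∧ ∀ A ∈ 𝓐, Group.IsNilpotent ↥A

theorem IsMinNilCover.false_of_two_le {𝓐 : Finset (Subgroup G)} (h : IsMinNilCover 𝓐) {A B M : Subgroup G}
    (hA : A ∈ 𝓐) (hB : B ∈ 𝓐) (hne : A ≠ B) (hAM : A ≤ M) (hBM : B ≤ M) (hM : M ≠ ⊤) : False := by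
  classical
  have hle := h.2.1 (insert M ((𝓐.erase A).erase B)) ⟨fun C hC => ?_, fun g => ?_⟩
  · have h1 := Finset.card_insert_le M ((𝓐.erase A).erase B)
    have h2 : ((𝓐.erase A).erase B).card + 1 = (𝓐.erase A).card :=
      Finset.card_erase_add_one (Finset.mem_erase.mpr ⟨hne.symm, hB⟩)
    have h3 := Finset.card_erase_add_one hA
    omega
  · rcases Finset.mem_insert.mp hC with rfl | hC
    · exact hM
    · exact h.1.1 C (Finset.mem_of_mem_erase (Finset.mem_of_mem_erase hC))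
  · obtain ⟨C, hC, hg⟩ := h.1.2 g
    by_cases hCA : C = A
    · exact ⟨M, Finset.mem_insert_self _ _, hAM (hCA ▸ hg)⟩
    by_cases hCB : C = B
    · exact ⟨M, Finset.mem_insert_self _ _, hBM (hCB ▸ hg)⟩
    exact ⟨C, Finset.mem_insert_of_mem (Finset.mem_erase.mpr ⟨hCB, Finset.mem_erase.mpr ⟨hCA, hC⟩⟩), hg⟩

/-- Two elements in no common nilpotent subgroup, all whose nilpotent overgroups lie in one proper
subgroup: there is no nilpotent minimal cover. -/
theorem not_exists_of_pair {x y : G} {M : Subgroup G} (hM : M ≠ ⊤)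
    (hx : ∀ A : Subgroup G, Group.IsNilpotent A → x ∈ A → A ≤ M)
    (hy : ∀ A : Subgroup G, Group.IsNilpotent A → y ∈ A → A ≤ M)
    (hxy : ∀ A : Subgroup G, Group.IsNilpotent A → x ∈ A → y ∉ A) :
    ¬ ∃ 𝓐 : Finset (Subgroup G), IsMinNilCover 𝓐 := by
  rintro ⟨𝓐, h⟩
  obtain ⟨A, hA, hxA⟩ := h.1.2 x
  obtain ⟨B, hB, hyB⟩ := h.1.2 y
  exact h.false_of_two_le hA hB (fun e => hxy A (h.2.2 A hA) hxA (e ▸ hyB))
    (hx A (h.2.2 A hA) hxA) (hy B (h.2.2 B hB) hyB) hM

/-- In a nilpotent subgroup, a nontrivial central element lies in the centralizer of every member. -/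
theorem exists_central_of_nilpotent {A : Subgroup G} (hA : Group.IsNilpotent A) {x : G} (hx : x ∈ A) (hx1 : x ≠ 1) :
    ∃ z ∈ A, z ≠ 1 ∧ ∀ a ∈ A, a * z = z * a := by
  have : Nontrivial A := ⟨⟨⟨x, hx⟩, 1, fun e => hx1 (congrArg Subtype.val e)⟩⟩
  have : Nontrivial (Subgroup.center A) := (Subgroup.nontrivial_iff_ne_bot _).mpr (Group.IsNilpotent.center_ne_bot _)
  obtain ⟨z, hz⟩ := exists_ne (1 : Subgroup.center A)
  refine ⟨((z : A) : G), (z : A).2, fun e => hz (Subtype.ext (Subtype.ext e)), fun a ha => ?_⟩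
  exact congrArg Subtype.val (Subgroup.mem_center_iff.mp z.2 ⟨a, ha⟩)

/-- If every nontrivial element of the commutative `T` has centraliser in `T`, and `C(x) ≤ T`,
every nilpotent subgroup containing `x` lies in `T`. -/
theorem le_of_centralizer {T : Subgroup G} {x : G} (hx1 : x ≠ 1)
    (hx : ∀ g : G, g * x = x * g → g ∈ T)
    (hT : ∀ z ∈ T, z ≠ 1 → ∀ g : G, g * z = z * g → g ∈ T)
    (A : Subgroup G) (hA : Group.IsNilpotent A) (hxA : x ∈ A) : A ≤ T := by
  obtain ⟨z, hzA, hz1, hz⟩ := exists_central_of_nilpotent hA hxA hx1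
  exact fun a ha => hT z (hx z (hz x hxA).symm) hz1 a (hz a ha)

/-- Two elements of prime order, each self-centralizing, inside one proper subgroup. -/
theorem not_exists_of_prime_pair {x y : G} {p r : ℕ} (hp : p.Prime) (hr : r.Prime) (hx : orderOf x = p)
    (hy : orderOf y = r) (hCx : ∀ g : G, g * x = x * g → g ∈ Subgroup.zpowers x)
    (hCy : ∀ g : G, g * y = y * g → g ∈ Subgroup.zpowers y)
    {M : Subgroup G} (hM : M ≠ ⊤) (hxM : x ∈ M) (hyM : y ∈ M) (hne : y ∉ Subgroup.zpowers x) :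
    ¬ ∃ 𝓐 : Finset (Subgroup G), IsMinNilCover 𝓐 := by
  have key : ∀ (u : G) (q : ℕ), q.Prime → orderOf u = q → (∀ g : G, g * u = u * g → g ∈ Subgroup.zpowers u) →
      ∀ A : Subgroup G, Group.IsNilpotent A → u ∈ A → A ≤ Subgroup.zpowers u := by
    intro u q hq hu hC A hA huA
    have := Fact.mk hq
    refine le_of_centralizer (fun e => hq.ne_one (by rw [← hu, e, orderOf_one])) hC (fun z hz hz1 g hg => ?_) A hA huA
    have hgen : Subgroup.zpowers u ≤ Subgroup.zpowers z := by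
      have hcard : Nat.card (Subgroup.zpowers u) = q := by rw [Nat.card_zpowers, hu]
      have : Finite (Subgroup.zpowers u) := Nat.finite_of_card_ne_zero (hcard ▸ hq.ne_zero)
      refine (Subgroup.eq_of_le_of_card_ge (Subgroup.zpowers_le.mpr hz) ?_).ge
      have hd := Subgroup.card_dvd_of_le (Subgroup.zpowers_le.mpr hz)
      rw [hcard] at hd ⊢
      rcases hq.eq_one_or_self_of_dvd _ hd with h | h
      · rw [Nat.card_zpowers, orderOf_eq_one_iff] at h; exact absurd h hz1
      · rw [h]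
    obtain ⟨k, hk⟩ := hgen (Subgroup.mem_zpowers u)
    refine hC g ?_
    rw [← hk]
    exact (show Commute g z from hg).zpow_right k
  refine not_exists_of_pair hM (fun A hA hu => (key x p hp hx hCx A hA hu).trans (Subgroup.zpowers_le.mpr hxM))
    (fun A hA hu => (key y r hr hy hCy A hA hu).trans (Subgroup.zpowers_le.mpr hyM))
    fun A hA hu hyA => hne (key x p hp hx hCx A hA hu hyA)

section Sylow

variable [Finite G] {p : ℕ} [Fact p.Prime]

/-- In a nilpotent group whose Sylow p-subgroups are abelian, p-elements are central. -/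
theorem mem_center_of_pElement {H : Type*} [Group H] [Finite H] (hH : Group.IsNilpotent H)
    (hab : ∀ S : Sylow p H, IsMulCommutative (S : Subgroup H)) {y : H} {k : ℕ} (hy : orderOf y = p ^ k) :
    y ∈ Subgroup.center H := by
  have hp : p.Prime := Fact.out
  obtain ⟨e⟩ := ((Group.isNilpotent_of_finite_tfae (G := H)).out 0 4).mp hH
  rw [Subgroup.mem_center_iff]
  intro a
  apply e.symm.injective
  rw [map_mul, map_mul]
  funext q Q
  simp only [Pi.mul_apply]
  by_cases hq : (q : ℕ) = p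
  · obtain ⟨q, hq'⟩ := q
    simp only at hq
    subst hq
    have := hab Q
    exact mul_comm' _ _
  · have := Fact.mk (Nat.prime_of_mem_primeFactors q.2)
    have h1 : orderOf (e.symm y q Q) = 1 := by
      obtain ⟨j, hj⟩ := (IsPGroup.iff_orderOf).mp Q.2 (e.symm y q Q)
      have hd : orderOf (e.symm y q Q) ∣ p ^ k := by
        refine orderOf_dvd_of_pow_eq_one ?_
        have := congrArg (fun f => f q Q) (congrArg e.symm (hy ▸ pow_orderOf_eq_one y : y ^ p ^ k = 1))
        simpa [map_pow] using this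
      rw [hj] at hd ⊢
      exact Nat.eq_one_of_dvd_coprimes
        (Nat.Coprime.pow j k ((Nat.coprime_primes (Nat.prime_of_mem_primeFactors q.2) hp).mpr hq)) dvd_rfl hd
    rw [orderOf_eq_one_iff.mp h1, mul_one, one_mul]

/-- For an abelian Sylow subgroup, nilpotent subgroups centralise their p-elements. -/
theorem le_centralizer_of_pElement (P : Sylow p G) (hab : IsMulCommutative (P : Subgroup G))
    {A : Subgroup G} (hA : Group.IsNilpotent A) {y : G} (hyA : y ∈ A) {k : ℕ} (hy : orderOf y = p ^ k) :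
    A ≤ Subgroup.centralizer ({y} : Set G) := by
  have hS : ∀ S : Sylow p A, IsMulCommutative (S : Subgroup A) := by
    intro S
    obtain ⟨T, hT⟩ := (S.2.map A.subtype).exists_le_sylow
    obtain ⟨g, rfl⟩ := MulAction.exists_smul_eq G P T
    refine ⟨⟨fun a b => Subtype.ext (Subtype.ext ?_)⟩⟩
    have ha := Subgroup.mem_pointwise_smul_iff_inv_smul_mem.mp (hT (Subgroup.mem_map_of_mem A.subtype a.2))
    have hb := Subgroup.mem_pointwise_smul_iff_inv_smul_mem.mp (hT (Subgroup.mem_map_of_mem A.subtype b.2))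
    apply MulAction.injective ((MulAut.conj g)⁻¹ : MulAut G)
    change (MulAut.conj g)⁻¹ ((a : A) * (b : A) : G) = (MulAut.conj g)⁻¹ ((b : A) * (a : A) : G)
    rw [map_mul, map_mul]
    exact congrArg Subtype.val (mul_comm' (M := (P : Subgroup G)) ⟨_, ha⟩ ⟨_, hb⟩)
  have := mem_center_of_pElement (p := p) hA hS (y := ⟨y, hyA⟩) (k := k) (by rwa [Subgroup.orderOf_mk])
  intro a ha
  rw [Subgroup.mem_centralizer_singleton_iff]
  exact congrArg Subtype.val (Subgroup.mem_center_iff.mp this ⟨a, ha⟩)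

omit [Finite G] in
theorem centralizer_ne_top (hZ : Subgroup.center G = ⊥) {y : G} (hy : y ≠ 1) :
    Subgroup.centralizer ({y} : Set G) ≠ ⊤ := by
  intro e
  refine hy (Subgroup.mem_bot.mp (hZ ▸ Subgroup.mem_center_iff.mpr fun g => ?_))
  exact Subgroup.mem_centralizer_singleton_iff.mp (e ▸ Subgroup.mem_top g)

omit [Finite G] in
theorem pElement_of_mem (P : Sylow p G) {y : G} (hy : y ∈ (P : Subgroup G)) : ∃ k, orderOf y = p ^ k := by
  obtain ⟨k, hk⟩ := (IsPGroup.iff_orderOf).mp P.2 ⟨y, hy⟩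
  exact ⟨k, by rwa [Subgroup.orderOf_mk] at hk⟩

/-- For an abelian Sylow subgroup `P`, members of the cover meeting `P` nontrivially in a common
element coincide. -/
theorem IsMinNilCover.eq_of_mem {𝓐 : Finset (Subgroup G)} (h : IsMinNilCover 𝓐) (hZ : Subgroup.center G = ⊥)
    (P : Sylow p G) (hab : IsMulCommutative (P : Subgroup G)) {y : G} (hyP : y ∈ (P : Subgroup G)) (hy1 : y ≠ 1)
    {A B : Subgroup G} (hA : A ∈ 𝓐) (hB : B ∈ 𝓐) (hyA : y ∈ A) (hyB : y ∈ B) : A = B := by
  by_contra hne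
  obtain ⟨k, hk⟩ := pElement_of_mem P hyP
  exact h.false_of_two_le hA hB hne (le_centralizer_of_pElement P hab (h.2.2 A hA) hyA hk)
    (le_centralizer_of_pElement P hab (h.2.2 B hB) hyB hk) (centralizer_ne_top hZ hy1)

omit [Finite G] [Fact p.Prime] in
theorem exists_mem_ne_one_of_not_normal (P : Sylow p G) (hnn : ¬ (P : Subgroup G).Normal) :
    ∃ z ∈ (P : Subgroup G), z ≠ 1 :=
  (P : Subgroup G).bot_or_exists_ne_one.resolve_left fun e => hnn (e ▸ inferInstance)

/-- A member containing the abelian Sylow subgroup `P` is `C(P)`. -/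
theorem IsMinNilCover.eq_centralizer {𝓐 : Finset (Subgroup G)} (h : IsMinNilCover 𝓐) (hZ : Subgroup.center G = ⊥)
    (P : Sylow p G) (hab : IsMulCommutative (P : Subgroup G)) (hnn : ¬ (P : Subgroup G).Normal)
    {A : Subgroup G} (hA : A ∈ 𝓐) (hPA : (P : Subgroup G) ≤ A) :
    Subgroup.centralizer ((P : Subgroup G) : Set G) = A := by
  have hp : p.Prime := Fact.out
  obtain ⟨z, hzP, hz1⟩ := exists_mem_ne_one_of_not_normal P hnn
  have hle : ∀ (Q : Sylow p G) {B : Subgroup G}, B ∈ 𝓐 → (Q : Subgroup G) ≤ B →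
      IsMulCommutative (Q : Subgroup G) → B ≤ Subgroup.centralizer ((Q : Subgroup G) : Set G) := by
    intro Q B hB hQB hQab a ha
    rw [Subgroup.mem_centralizer_iff]
    intro y hy
    obtain ⟨k, hk⟩ := pElement_of_mem Q hy
    exact (Subgroup.mem_centralizer_singleton_iff.mp
      (le_centralizer_of_pElement Q hQab (h.2.2 B hB) (hQB hy) hk ha)).symm
  refine le_antisymm (fun c hc => ?_) (hle P hA hPA hab)
  -- write `c = u v` with `u ∈ P`, `v` of order prime to `p`
  obtain ⟨a, m, hm, hn⟩ := Nat.exists_eq_pow_mul_and_not_dvd (orderOf_pos c).ne' p hp.ne_one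
  have hco : Nat.Coprime (p ^ a) m := Nat.Coprime.pow_left a (hp.coprime_iff_not_dvd.mpr hm)
  have hz : Commute z c := Subgroup.mem_centralizer_iff.mp hc z hzP
  have hu : c ^ m ∈ (P : Subgroup G) := by
    have hpg : IsPGroup p ↥((P : Subgroup G) ⊔ Subgroup.zpowers (c ^ m)) := by
      refine P.2.to_sup_of_normal_left' (IsPGroup.of_card (n := a) ?_) ?_
      · rw [Nat.card_zpowers, orderOf_pow_of_dvd (Nat.pos_of_ne_zero (by rintro rfl; exact hm (dvd_zero p))).ne'
          (hn ▸ Dvd.intro_left _ rfl), hn, Nat.mul_div_cancel _ (Nat.pos_of_ne_zero (by rintro rfl; exact hm (dvd_zero p)))]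
      · rw [Subgroup.zpowers_le]
        exact Subgroup.centralizer_le_normalizer _ (Subgroup.pow_mem _ hc m)
    have := P.3 hpg le_sup_left
    exact this ▸ Subgroup.mem_sup_right (Subgroup.mem_zpowers _)
  have hpa : c ^ p ^ a ∈ A := by
    -- the member containing `c^(p^a) z` contains `z`
    obtain ⟨B, hB, hBm⟩ := h.1.2 (z * c ^ p ^ a)
    obtain ⟨k, hk⟩ := pElement_of_mem P hzP
    have hk0 : k ≠ 0 := fun e => hz1 (by rw [e, pow_zero, orderOf_eq_one_iff] at hk; exact hk)
    have hv : (c ^ p ^ a) ^ m = 1 := by rw [← pow_mul, ← hn, pow_orderOf_eq_one]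
    have h1 : z ^ m ∈ B := by
      have := B.pow_mem hBm m
      rwa [(hz.pow_right _).mul_pow, hv, mul_one] at this
    have hzB : z ∈ B := by
      obtain ⟨i, hi⟩ := exists_pow_eq_self_of_coprime (x := z) (n := m)
        (hk ▸ Nat.Coprime.pow_right k (hp.coprime_iff_not_dvd.mpr hm).symm)
      exact hi ▸ B.pow_mem h1 i
    have hBA : B = A := h.eq_of_mem hZ P hab hzP hz1 hB hA hzB (hPA hzP)
    subst hBA
    simpa using B.mul_mem (B.inv_mem hzB) hBm
  obtain ⟨e, he1, he2⟩ := Nat.chineseRemainder hco 1 0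
  obtain ⟨f, hf1, hf2⟩ := Nat.chineseRemainder hco 0 1
  have h1 : e + f ≡ 1 [MOD p ^ a * m] :=
    (Nat.modEq_and_modEq_iff_modEq_mul hco).mp ⟨by simpa using he1.add hf1, by simpa using he2.add hf2⟩
  have hce : c ^ (e + f) = c := by
    conv_rhs => rw [← pow_one c]
    exact pow_eq_pow_iff_modEq.mpr (hn ▸ h1)
  rw [← hce, pow_add]
  obtain ⟨e', rfl⟩ := Nat.modEq_zero_iff_dvd.mp he2
  obtain ⟨f', rfl⟩ := Nat.modEq_zero_iff_dvd.mp hf1
  exact A.mul_mem (by rw [pow_mul]; exact A.pow_mem (hPA hu) e') (by rw [pow_mul]; exact A.pow_mem hpa f')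

omit [Finite G] [Fact p.Prime] in
theorem isMulCommutative_smul (P : Sylow p G) (hab : IsMulCommutative (P : Subgroup G)) (m : G) :
    IsMulCommutative ((m • P : Sylow p G) : Subgroup G) := by
  refine ⟨⟨fun a b => Subtype.ext ?_⟩⟩
  obtain ⟨a', ha', hae⟩ := a.2
  obtain ⟨b', hb', hbe⟩ := b.2
  rw [Subgroup.coe_mul, Subgroup.coe_mul, ← hae, ← hbe]
  change MulAut.conj m a' * MulAut.conj m b' = MulAut.conj m b' * MulAut.conj m a'
  rw [← map_mul, ← map_mul]
  exact congrArg _ (congrArg Subtype.val (mul_comm' (M := (P : Subgroup G)) ⟨a', ha'⟩ ⟨b', hb'⟩))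

theorem not_normal_smul (P : Sylow p G) (hnn : ¬ (P : Subgroup G).Normal) (m : G) :
    ¬ ((m • P : Sylow p G) : Subgroup G).Normal := by
  intro hn
  refine hnn ?_
  have := (m • P).unique_of_normal hn
  rwa [Subsingleton.elim (m • P) P] at hn

/-- If every conjugate of the abelian `P` lies in a member, `N(P)` is maximal, it is the only maximal
subgroup over `C(P)`, and it is strongly p-embedded. -/
theorem IsMinNilCover.normalizer_spec {𝓐 : Finset (Subgroup G)} (h : IsMinNilCover 𝓐) (hZ : Subgroup.center G = ⊥)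
    (P : Sylow p G) (hab : IsMulCommutative (P : Subgroup G)) (hnn : ¬ (P : Subgroup G).Normal)
    (hmem : ∀ Q : Sylow p G, ∃ A ∈ 𝓐, (Q : Subgroup G) ≤ A) :
    (∀ M : Subgroup G, M ≠ ⊤ → Subgroup.centralizer ((P : Subgroup G) : Set G) ≤ M →
        M ≤ Subgroup.normalizer ((P : Subgroup G) : Set G)) ∧
      IsCoatom (Subgroup.normalizer ((P : Subgroup G) : Set G)) ∧
      ∀ g : G, g ∉ Subgroup.normalizer ((P : Subgroup G) : Set G) →
        ¬ p ∣ Nat.card ↥(Subgroup.normalizer ((P : Subgroup G) : Set G) ⊓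
          (Subgroup.normalizer ((P : Subgroup G) : Set G)).map (MulAut.conj g).toMonoidHom) := by
  obtain ⟨A, hA, hPA⟩ := hmem P
  have hC := h.eq_centralizer hZ P hab hnn hA hPA
  have key : ∀ m : G, ∃ B ∈ 𝓐, ((m • P : Sylow p G) : Subgroup G) ≤ B ∧ (B = A → m • P = P) ∧
      ∀ b ∈ B, m⁻¹ * b * m ∈ A := by
    intro m
    obtain ⟨B, hB, hQB⟩ := hmem (m • P)
    have hB' := h.eq_centralizer hZ (m • P) (isMulCommutative_smul P hab m) (not_normal_smul P hnn m) hB hQB
    refine ⟨B, hB, hQB, fun e => ?_, fun b hb => ?_⟩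
    · have h1 := P.3 (P.2.to_sup_of_normal_left' (m • P).2
        (fun x hx => Subgroup.centralizer_le_normalizer _ (hC.symm ▸ e ▸ hQB hx))) le_sup_left
      exact Sylow.ext ((m • P).3 P.2 (le_sup_right.trans h1.le)).symm
    · rw [← hB'] at hb
      rw [← hC, Subgroup.mem_centralizer_iff]
      intro y hy
      have := Subgroup.mem_centralizer_iff.mp hb (m * y * m⁻¹)
        (Subgroup.smul_mem_pointwise_smul y (MulAut.conj m) _ hy)
      calc y * (m⁻¹ * b * m) = m⁻¹ * ((m * y * m⁻¹) * b) * m := by group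
        _ = m⁻¹ * (b * (m * y * m⁻¹)) * m := by rw [this]
        _ = m⁻¹ * b * m * y := by group
  have hM : ∀ M : Subgroup G, M ≠ ⊤ → Subgroup.centralizer ((P : Subgroup G) : Set G) ≤ M →
      M ≤ Subgroup.normalizer ((P : Subgroup G) : Set G) := by
    intro M hMt hAM m hm
    rw [hC] at hAM
    refine Sylow.smul_eq_iff_mem_normalizer.mp ?_
    obtain ⟨B, hB, -, hBA, hBc⟩ := key m
    by_contra hne
    refine h.false_of_two_le hB hA (fun e => hne (hBA e)) (fun b hb => ?_) hAM hMt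
    have := M.mul_mem (M.mul_mem hm (hAM (hBc b hb))) (M.inv_mem hm)
    simpa [mul_assoc] using this
  refine ⟨hM, ⟨fun e => hnn (Subgroup.normalizer_eq_top_iff.mp e), fun M hlt => ?_⟩, fun g hg hd => ?_⟩
  · by_contra hMt
    exact absurd (hM M hMt ((Subgroup.centralizer_le_normalizer _).trans hlt.le)) (not_le_of_gt hlt)
  · obtain ⟨⟨y, hy⟩, hoy⟩ := exists_prime_orderOf_dvd_card' p hd
    rw [Subgroup.orderOf_mk] at hoy
    have hin : ∀ x, x ∈ Subgroup.normalizer ((P : Subgroup G) : Set G) → orderOf x = p → x ∈ (P : Subgroup G) := by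
      intro x hx hox
      have h1 := P.3 (P.2.to_sup_of_normal_left' (IsPGroup.of_card (p := p) (n := 1)
        (G := Subgroup.zpowers x) (by rw [Nat.card_zpowers, hox, pow_one])) (by rwa [Subgroup.zpowers_le])) le_sup_left
      exact h1 ▸ Subgroup.mem_sup_right (Subgroup.mem_zpowers x)
    obtain ⟨y', hy', hye⟩ := hy.2
    have hyP : y ∈ (P : Subgroup G) := hin y hy.1 hoy
    have hyQ : y ∈ ((g • P : Sylow p G) : Subgroup G) := by
      have : orderOf y' = p := by
        rw [← hoy, ← hye]; exact (orderOf_injective _ (MulAut.conj g).injective y').symm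
      rw [← hye]
      exact Subgroup.smul_mem_pointwise_smul y' (MulAut.conj g) _ (hin y' hy' this)
    obtain ⟨B, hB, hQB, hBA, -⟩ := key g
    have hy1 : y ≠ 1 := fun e => (Fact.out : p.Prime).ne_one (by rw [← hoy, e, orderOf_one])
    exact hg (Sylow.smul_eq_iff_mem_normalizer.mp (hBA (h.eq_of_mem hZ P hab hyP hy1 hB hA (hQB hyQ) (hPA hyP))))

end Sylow

/-- A group with a nontrivial partition and commutative multiplication has prime exponent. -/
theorem exponent_prime_of_partition {H : Type*} [Group H] [Finite H] (hcomm : ∀ a b : H, a * b = b * a)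
    (𝓑 : Set (Subgroup H)) (hprop : ∀ B ∈ 𝓑, B ≠ ⊤)
    (hcov : ∀ g : H, ∃ B ∈ 𝓑, g ∈ B) (hdisj : ∀ B ∈ 𝓑, ∀ C ∈ 𝓑, B ≠ C → B ⊓ C = ⊥) :
    (Monoid.exponent H).Prime := by
  have huniq : ∀ {B C : Subgroup H} {x : H}, B ∈ 𝓑 → C ∈ 𝓑 → x ≠ 1 → x ∈ B → x ∈ C → B = C := by
    intro B C x hB hC hx hxB hxC
    by_contra hne
    exact hx (Subgroup.mem_bot.mp (hdisj B hB C hC hne ▸ Subgroup.mem_inf.mpr ⟨hxB, hxC⟩))
  have hlt : ∀ B ∈ 𝓑, ∀ x ∈ B, x ≠ 1 → ∀ y, y ∉ B → orderOf x = orderOf y := by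
    intro B hB x hx hx1 y hy
    obtain ⟨C, hC, hxyC⟩ := hcov (x * y)
    obtain ⟨D, hD, hyD⟩ := hcov y
    have hcB : x * y ∉ B := fun hm => hy (by simpa using B.mul_mem (B.inv_mem hx) hm)
    have e1 : y ^ orderOf x = 1 := by
      by_contra hne
      have hmem : y ^ orderOf x ∈ C := by
        have := C.pow_mem hxyC (orderOf x)
        rwa [Commute.mul_pow (hcomm x y), pow_orderOf_eq_one, one_mul] at this
      have hCD := huniq hC hD hne hmem (D.pow_mem hyD _)
      subst hCD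
      have hxC : x ∈ C := by simpa using C.mul_mem hxyC (C.inv_mem hyD)
      exact hy (huniq hB hC hx1 hx hxC ▸ hyD)
    have e2 : x ^ orderOf y = 1 := by
      by_contra hne
      have hmem : x ^ orderOf y ∈ C := by
        have := C.pow_mem hxyC (orderOf y)
        rwa [Commute.mul_pow (hcomm x y), pow_orderOf_eq_one, mul_one] at this
      exact hcB (huniq hC hB hne hmem (B.pow_mem hx _) ▸ hxyC)
    exact Nat.dvd_antisymm (orderOf_dvd_of_pow_eq_one e2) (orderOf_dvd_of_pow_eq_one e1)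
  obtain ⟨B₀, hB₀, -⟩ := hcov 1
  have hntriv : Nontrivial H := by
    rw [← not_subsingleton_iff_nontrivial]
    intro hs
    exact hprop B₀ hB₀ (eq_top_iff.mpr fun x _ => Subsingleton.elim 1 x ▸ B₀.one_mem)
  obtain ⟨p, hp, hpd⟩ := Nat.exists_prime_and_dvd (Finite.one_lt_card (α := H)).ne'
  have := Fact.mk hp
  obtain ⟨x, hx⟩ := exists_prime_orderOf_dvd_card' p hpd
  have hx1 : x ≠ 1 := fun e => hp.ne_one (by rw [← hx, e, orderOf_one])
  obtain ⟨B, hB, hxB⟩ := hcov x
  obtain ⟨y, -, hy⟩ := SetLike.exists_of_lt (lt_top_iff_ne_top.mpr (hprop B hB))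
  have hy1 : y ≠ 1 := fun e => hy (e ▸ B.one_mem)
  have hall : ∀ z : H, z ^ p = 1 := by
    intro z
    by_cases hz : z = 1
    · simp [hz]
    by_cases hzB : z ∈ B
    · rw [← hx, hlt B hB x hxB hx1 y hy, ← hlt B hB z hzB hz y hy, pow_orderOf_eq_one]
    · rw [← hx, hlt B hB x hxB hx1 z hzB, pow_orderOf_eq_one]
  rcases hp.eq_one_or_self_of_dvd _ (Monoid.exponent_dvd_of_forall_pow_eq_one hall) with h | h
  · exact absurd (Monoid.exp_eq_one_iff.mp h) (not_subsingleton H)
  · rwa [h]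

/-- A nonnormal abelian Sylow subgroup that is cyclic or not elementary abelian lies in a member. -/
theorem IsMinNilCover.exists_sylow_le [Finite G] {p : ℕ} [Fact p.Prime] {𝓐 : Finset (Subgroup G)}
    (h : IsMinNilCover 𝓐) (hZ : Subgroup.center G = ⊥) (P : Sylow p G)
    (hP : IsCyclic ↥(P : Subgroup G) ∨ (IsMulCommutative ↥(P : Subgroup G) ∧ ¬ Cfsg.IsElementaryAbelian p (P : Subgroup G))) :
    ∃ A ∈ 𝓐, (P : Subgroup G) ≤ A := by
  rcases hP with hP | ⟨hab, hne⟩
  · obtain ⟨x, hx⟩ := hP.exists_generator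
    obtain ⟨A, hA, hxA⟩ := h.1.2 (x : G)
    refine ⟨A, hA, fun y hy => ?_⟩
    obtain ⟨k, hk⟩ := hx ⟨y, hy⟩
    have := A.zpow_mem hxA k
    rwa [← Subgroup.coe_zpow, show x ^ k = ⟨y, hy⟩ from hk] at this
  by_contra hno
  push Not at hno
  apply hne
  have hex := exponent_prime_of_partition (H := (P : Subgroup G)) (fun a b => mul_comm' a b)
    {B | ∃ A ∈ 𝓐, B = A.subgroupOf (P : Subgroup G)}
    (by
      rintro _ ⟨A, hA, rfl⟩ e
      exact hno A hA (Subgroup.subgroupOf_eq_top.mp e))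
    (fun g => by
      obtain ⟨A, hA, hg⟩ := h.1.2 (g : G)
      exact ⟨_, ⟨A, hA, rfl⟩, hg⟩)
    (by
      rintro _ ⟨A, hA, rfl⟩ _ ⟨B, hB, rfl⟩ hne'
      rw [eq_bot_iff]
      intro y hy
      rw [Subgroup.mem_bot]
      by_contra hy1
      exact hne' (by rw [h.eq_of_mem hZ P hab y.2 (fun e => hy1 (Subtype.ext e)) hA hB hy.1 hy.2]))
  have hexp : Monoid.exponent (P : Subgroup G) = p := by
    obtain ⟨k, hk⟩ := (IsPGroup.iff_card).mp P.2
    exact (Nat.prime_dvd_prime_iff_eq hex Fact.out).mp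
      (hex.dvd_of_dvd_pow (hk ▸ Group.exponent_dvd_nat_card))
  refine ⟨hab, fun a ha => ?_⟩
  have := Monoid.pow_exponent_eq_one (⟨a, ha⟩ : (P : Subgroup G))
  rw [hexp] at this
  exact congrArg Subtype.val this

end Cfsg.Agent.Cover
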