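import Mathlib
import Cfsg.Agent.Lib.Cover.Basic

/-!
Groups between `PSL_n(q)` and `PGL_n(q)` (`n ≥ 3`, or `n = 2`, `q ≥ 4`) have no nilpotent minimal cover.

A nilpotent subgroup of `PGL_n` containing a regular unipotent element is a p-group, so it fixes the line
fixed by that element. For `n ≥ 3` two regular unipotents fixing the same line finish the proof; for
`n = 2` either two split torus elements of odd prime order do, or, when `q - 1` is a power of 2, a count.
-/

set_option autoImplicit false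

namespace Cfsg.Agent.Cover.ProjLinear

open Matrix

/-- In a finite nilpotent group elements of coprime orders commute. -/
theorem commute_of_coprime {H : Type*} [Group H] [Finite H] (hH : Group.IsNilpotent H) {x y : H}
    (h : (orderOf x).Coprime (orderOf y)) : Commute x y := by
  obtain ⟨e⟩ := ((Group.isNilpotent_of_finite_tfae (G := H)).out 0 4).mp hH
  apply e.symm.injective
  rw [map_mul, map_mul]
  funext q Q
  simp only [Pi.mul_apply]
  have := Fact.mk (Nat.prime_of_mem_primeFactors q.2)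
  have hkill : ∀ b : H, ¬ (q : ℕ) ∣ orderOf b → e.symm b q Q = 1 := by
    intro b hb
    obtain ⟨j, hj⟩ := (IsPGroup.iff_orderOf).mp Q.2 (e.symm b q Q)
    refine orderOf_eq_one_iff.mp (Nat.eq_one_of_dvd_coprimes
      (Nat.Coprime.pow_left j ((Nat.prime_of_mem_primeFactors q.2).coprime_iff_not_dvd.mpr hb)) hj.dvd ?_)
    refine orderOf_dvd_of_pow_eq_one ?_
    have := congrArg (fun f => f q Q) (congrArg e.symm (pow_orderOf_eq_one b))
    rw [map_pow, map_one] at this
    exact this
  by_cases hq : (q : ℕ) ∣ orderOf x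
  · rw [hkill y fun hy => (Nat.prime_of_mem_primeFactors q.2).ne_one (Nat.eq_one_of_dvd_coprimes h hq hy)]
    simp
  · rw [hkill x hq]; simp

/-- The elements of a nilpotent subgroup of order prime to `p` commute with its p-elements. -/
theorem commute_pPrimePart {H : Type*} [Group H] [Finite H] {A : Subgroup H} (hA : Group.IsNilpotent A)
    {x a : H} (hx : x ∈ A) (ha : a ∈ A) (h : (orderOf x).Coprime (orderOf a)) : Commute x a :=
  congrArg Subtype.val (commute_of_coprime hA (x := (⟨x, hx⟩ : A)) (y := ⟨a, ha⟩) (by simpa using h)).eq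

variable {F : Type*} [Field F] {n : ℕ}

/-- The general linear group modulo its centre. -/
abbrev PGL (n : ℕ) (F : Type*) [Field F] := GL (Fin n) F ⧸ Subgroup.center (GL (Fin n) F)

/-- The projection. -/
abbrev proj (n : ℕ) (F : Type*) [Field F] : GL (Fin n) F →* PGL n F := QuotientGroup.mk' _

theorem exists_scalar {Z : GL (Fin n) F} (h : Z ∈ Subgroup.center (GL (Fin n) F)) :
    ∃ c : F, c ≠ 0 ∧ (Z : Matrix (Fin n) (Fin n) F) = c • 1 := by
  rw [GeneralLinearGroup.center_eq_range_scalar] at h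
  obtain ⟨c, rfl⟩ := h
  exact ⟨(c : F), c.ne_zero, by simp [Matrix.smul_one_eq_diagonal]⟩

theorem mem_center_of_scalar {Z : GL (Fin n) F} {c : F} (h : (Z : Matrix (Fin n) (Fin n) F) = c • 1) :
    Z ∈ Subgroup.center (GL (Fin n) F) := by
  rw [Subgroup.mem_center_iff]
  intro g
  apply Units.ext
  rw [Units.val_mul, Units.val_mul, h, Matrix.mul_smul, Matrix.smul_mul, mul_one, one_mul]

theorem exists_smul_of_proj_eq {Y Z : GL (Fin n) F} (h : proj n F Y = proj n F Z) :
    ∃ c : F, c ≠ 0 ∧ (Y : Matrix (Fin n) (Fin n) F) = c • (Z : Matrix (Fin n) (Fin n) F) := by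
  obtain ⟨c, hc, hce⟩ := exists_scalar ((QuotientGroup.eq).mp h.symm)
  refine ⟨c, hc, ?_⟩
  have : Y = Z * (Z⁻¹ * Y) := by group
  rw [this, Units.val_mul, hce, Matrix.mul_smul, mul_one]

/-- Stabiliser in `GL_n` of the line through the vector `w`. -/
def lineStab [Finite F] (w : Fin n → F) : Subgroup (GL (Fin n) F) :=
  let S : Submonoid (GL (Fin n) F) :=
    { carrier := {Y | ∃ c : F, (Y : Matrix (Fin n) (Fin n) F) *ᵥ w = c • w}
      one_mem' := ⟨1, by simp⟩
      mul_mem' := fun {a b} ⟨c, hc⟩ ⟨d, hd⟩ => ⟨c * d, by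
        rw [Units.val_mul, ← mulVec_mulVec, hd, mulVec_smul, hc, smul_smul, mul_comm]⟩ }
  { S with
    inv_mem' := fun {a} ha => by
      obtain ⟨k, hk⟩ := (isOfFinOrder_of_finite a).mem_powers_iff_mem_zpowers.mpr
        (Subgroup.inv_mem _ (Subgroup.mem_zpowers a))
      exact hk ▸ S.pow_mem ha k }

theorem proj_mem_lineStab [Finite F] {w : Fin n → F} {Y : GL (Fin n) F}
    (h : proj n F Y ∈ (lineStab w).map (proj n F)) : Y ∈ lineStab w := by
  obtain ⟨Z, ⟨c, hc⟩, hZ⟩ := h
  obtain ⟨d, -, hd⟩ := exists_smul_of_proj_eq hZ.symm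
  exact ⟨d * c, by rw [hd, smul_mulVec, hc, smul_smul]⟩

section Regular

variable {k : ℕ}

/-- The nilpotent matrix with ones just above the diagonal. -/
def shiftN (k : ℕ) (F : Type*) [Field F] : Matrix (Fin (k + 2)) (Fin (k + 2)) F :=
  Matrix.of fun i j => if (i : ℕ) + 1 = j then 1 else 0

/-- The first basis vector. -/
def e0 (k : ℕ) (F : Type*) [Field F] : Fin (k + 2) → F := Pi.single 0 1

theorem shiftN_mulVec (v : Fin (k + 2) → F) (i : Fin (k + 2)) :
    (shiftN k F *ᵥ v) i = if h : (i : ℕ) + 1 < k + 2 then v ⟨i + 1, h⟩ else 0 := by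
  simp only [mulVec, dotProduct, shiftN, Matrix.of_apply, ite_mul, one_mul, zero_mul]
  split_ifs with h
  · rw [Finset.sum_eq_single ⟨(i : ℕ) + 1, h⟩]
    · simp
    · intro j _ hj; rw [if_neg fun e => hj (Fin.ext e.symm)]
    · simp
  · exact Finset.sum_eq_zero fun j _ => by rw [if_neg (fun e => h (lt_of_eq_of_lt e j.isLt))]

theorem vecMul_shiftN (v : Fin (k + 2) → F) (j : Fin (k + 2)) :
    (v ᵥ* shiftN k F) j = if h : 0 < (j : ℕ) then v ⟨j - 1, by omega⟩ else 0 := by
  simp only [vecMul, dotProduct, shiftN, Matrix.of_apply, mul_ite, mul_one, mul_zero]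
  split_ifs with h
  · rw [Finset.sum_eq_single ⟨(j : ℕ) - 1, by omega⟩]
    · simp; omega
    · intro i _ hi; rw [if_neg fun e => hi (Fin.ext (by omega : (i : ℕ) = j - 1))]
    · simp
  · exact Finset.sum_eq_zero fun i _ => by rw [if_neg (by omega)]

theorem shiftN_mulVec_e0 : shiftN k F *ᵥ e0 k F = 0 := by
  funext i
  rw [shiftN_mulVec, Pi.zero_apply]
  split_ifs with h
  · rw [e0, Pi.single_eq_of_ne]
    exact Fin.ne_of_val_ne (by simp)
  · rfl

theorem eq_smul_e0 {v : Fin (k + 2) → F} (h : shiftN k F *ᵥ v = 0) : v = v 0 • e0 k F := by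
  funext i
  rcases eq_or_ne i 0 with rfl | hi
  · simp [e0]
  · have hi' : 0 < (i : ℕ) := Fin.pos_iff_ne_zero.mpr hi
    have := congrFun h ⟨(i : ℕ) - 1, by omega⟩
    rw [shiftN_mulVec, dif_pos (by simp only; omega), Pi.zero_apply] at this
    rw [show i = ⟨(⟨(i : ℕ) - 1, by omega⟩ : Fin (k + 2)).val + 1, by simp only; omega⟩ from
      Fin.ext (by simp only; omega), this]
    rw [e0, Pi.smul_apply, Pi.single_eq_of_ne, smul_zero]
    exact Fin.ne_of_val_ne (by simp)

theorem shiftN_pow : shiftN k F ^ (k + 2) = 0 := by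
  have key : ∀ (m : ℕ) (v : Fin (k + 2) → F) (i : Fin (k + 2)), k + 2 ≤ (i : ℕ) + m →
      ((shiftN k F ^ m) *ᵥ v) i = 0 := by
    intro m
    induction m with
    | zero => intro v i h; omega
    | succ m ih =>
      intro v i h
      rw [pow_succ', ← mulVec_mulVec, shiftN_mulVec]
      split_ifs with h'
      · exact ih v _ (by simp only; omega)
      · rfl
  exact Matrix.ext_of_mulVec_single fun i => funext fun j => by
    rw [key (k + 2) _ j (by omega)]; simp

theorem det_one_add_shiftN : (1 + shiftN k F).det = 1 := by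
  rw [Matrix.det_of_isUpperTriangular]
  · simp [shiftN]
  · intro i j h
    have h' : (j : ℕ) < i := h
    simp [shiftN, Fin.ext_iff, show (i : ℕ) ≠ j by omega, show (i : ℕ) + 1 ≠ j by omega]

/-- The regular unipotent element `1 + N`. -/
noncomputable def regX (k : ℕ) (F : Type*) [Field F] : GL (Fin (k + 2)) F :=
  GeneralLinearGroup.mkOfDetNeZero (1 + shiftN k F) (by rw [det_one_add_shiftN]; exact one_ne_zero)

theorem coe_regX : (regX k F : Matrix (Fin (k + 2)) (Fin (k + 2)) F) = 1 + shiftN k F := rfl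


variable [Finite F] {p : ℕ} [Fact p.Prime] [CharP F p]

omit [Finite F] in
/-- Elements of `PGL_n` commuting with the regular unipotent element are p-elements. -/
theorem pElement_of_commute {a : PGL (k + 2) F} (h : Commute a (proj _ F (regX k F))) :
    a ^ p ^ (k + 2) = 1 := by
  obtain ⟨Y, rfl⟩ := QuotientGroup.mk'_surjective _ a
  obtain ⟨c, -, hce⟩ := exists_smul_of_proj_eq (Y := Y * regX k F) (Z := regX k F * Y)
    (by rw [map_mul, map_mul]; exact h.eq)
  rw [Units.val_mul, Units.val_mul, coe_regX] at hce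
  set Ym : Matrix (Fin (k + 2)) (Fin (k + 2)) F := (Y : Matrix (Fin (k + 2)) (Fin (k + 2)) F) with hYm
  have hY0 : Ym *ᵥ e0 k F ≠ 0 := fun e => by
    have h1 := congrArg (fun v => ((Y⁻¹ : GL (Fin (k + 2)) F) : Matrix (Fin (k + 2)) (Fin (k + 2)) F) *ᵥ v) e
    simp only [mulVec_mulVec, hYm, ← Units.val_mul, inv_mul_cancel, Units.val_one, one_mulVec, mulVec_zero] at h1
    exact one_ne_zero (show (1 : F) = 0 by simpa [e0] using congrFun h1 0)
  set w := Ym *ᵥ e0 k F with hw
  -- `w = c (1 + N) w`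
  have hwc : w = c • w + c • (shiftN k F *ᵥ w) := by
    have := congrArg (fun M => M *ᵥ e0 k F) hce
    simp only [mul_add, mul_one, add_mulVec, smul_mulVec, ← mulVec_mulVec, shiftN_mulVec_e0, mulVec_zero,
      add_zero, add_mul, one_mul, ← hw, smul_add] at this
    exact this
  have hc1 : c = 1 := by
    by_contra hc1
    have step : ∀ m : ℕ, (1 - c) ^ m • w = c ^ m • (shiftN k F ^ m *ᵥ w) := by
      intro m
      induction m with
      | zero => simp
      | succ m ih =>
        have h1 : (1 - c) • w = c • (shiftN k F *ᵥ w) := by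
          rw [sub_smul, one_smul, sub_eq_iff_eq_add']; exact hwc
        rw [pow_succ (1 - c), mul_smul, h1, smul_comm, ← mulVec_smul, ih, mulVec_smul, smul_smul,
          mulVec_mulVec, ← pow_succ', ← pow_succ']
    have := step (k + 2)
    rw [shiftN_pow, zero_mulVec, smul_zero, smul_eq_zero] at this
    exact this.elim (fun e => hc1 (sub_eq_zero.mp (eq_zero_of_pow_eq_zero e)).symm) hY0
  subst hc1
  rw [one_smul, mul_add, mul_one, add_mul, one_mul, add_right_inj] at hce
  have hN : shiftN k F *ᵥ w = 0 := by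
    rw [hw, mulVec_mulVec, ← hce, ← mulVec_mulVec, shiftN_mulVec_e0, mulVec_zero]
  set lam := w 0
  set D := Ym - lam • 1 with hD
  have hDN : D * shiftN k F = shiftN k F * D := by
    rw [hD, sub_mul, mul_sub, hce, Matrix.smul_mul, Matrix.mul_smul, one_mul, mul_one]
  have hD0 : D *ᵥ e0 k F = 0 := by
    rw [hD, sub_mulVec, smul_mulVec, one_mulVec, ← hw, sub_eq_zero]
    exact eq_smul_e0 hN
  have hDm : ∀ (m : ℕ) (v : Fin (k + 2) → F), shiftN k F ^ m *ᵥ v = 0 → D ^ m *ᵥ v = 0 := by
    intro m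
    induction m with
    | zero => intro v hv; simpa using hv
    | succ m ih =>
      intro v hv
      rw [pow_succ, ← mulVec_mulVec]
      refine ih _ ?_
      have hc' : Commute (shiftN k F ^ m) D := (show Commute (shiftN k F) D from hDN.symm).pow_left m
      rw [mulVec_mulVec, hc'.eq, ← mulVec_mulVec]
      have : shiftN k F *ᵥ (shiftN k F ^ m *ᵥ v) = 0 := by rwa [mulVec_mulVec, ← pow_succ']
      rw [eq_smul_e0 this, mulVec_smul, hD0, smul_zero]
  have hDn : D ^ (k + 2) = 0 := Matrix.ext_of_mulVec_single fun i => by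
    rw [hDm (k + 2) _ (by rw [shiftN_pow, zero_mulVec]), zero_mulVec]
  have hYp : Ym ^ p ^ (k + 2) = lam ^ p ^ (k + 2) • 1 := by
    have hcomm : Commute (lam • (1 : Matrix (Fin (k + 2)) (Fin (k + 2)) F)) D := (Commute.one_left D).smul_left lam
    rw [show Ym = lam • 1 + D by rw [hD]; abel, add_pow_char_pow_of_commute p (k + 2) hcomm,
      smul_pow, one_pow, pow_eq_zero_of_le ?_ hDn, add_zero]
    exact le_trans (Nat.lt_two_pow_self).le (Nat.pow_le_pow_left (Fact.out : p.Prime).two_le _)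
  rw [← map_pow]
  exact (QuotientGroup.eq_one_iff _).mpr (mem_center_of_scalar (by rw [Units.val_pow_eq_pow_val]; exact hYp))

omit [Finite F] in
theorem proj_regX_ne_one : proj _ F (regX k F) ≠ 1 := by
  intro h
  obtain ⟨c, -, hc⟩ := exists_scalar ((QuotientGroup.eq_one_iff _).mp h)
  have h1 := congrFun (congrFun hc 0) 1
  simp [coe_regX, shiftN] at h1

/-- A nilpotent subgroup containing a conjugate of the regular unipotent is a p-group. -/
theorem isPGroup_of_nilpotent (g : GL (Fin (k + 2)) F) {A : Subgroup (PGL (k + 2) F)} (hA : Group.IsNilpotent A)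
    (hg : proj _ F (g * regX k F * g⁻¹) ∈ A) : IsPGroup p A := by
  intro a
  set x := proj _ F (g * regX k F * g⁻¹)
  have hp : p.Prime := Fact.out
  obtain ⟨i, m, hm, hn⟩ := Nat.exists_eq_pow_mul_and_not_dvd (orderOf_pos a).ne' p hp.ne_one
  refine ⟨i, ?_⟩
  have hox : orderOf x ∣ p ^ (k + 2) := by
    refine orderOf_dvd_of_pow_eq_one ?_
    simp only [x, map_mul, map_inv]
    rw [conj_pow, pElement_of_commute (p := p) (Commute.refl (proj _ F (regX k F)))]
    simp
  have hov : orderOf ((a ^ p ^ i : A) : PGL (k + 2) F) ∣ m := by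
    rw [Subgroup.orderOf_coe]
    exact orderOf_dvd_of_pow_eq_one (by rw [← pow_mul, ← hn, pow_orderOf_eq_one])
  have hc := commute_pPrimePart hA hg (a ^ p ^ i).2
    (((Nat.Coprime.pow_left (k + 2) (hp.coprime_iff_not_dvd.mpr hm))).coprime_dvd_left hox |>.coprime_dvd_right hov)
  set v := ((a ^ p ^ i : A) : PGL (k + 2) F)
  have hc' : Commute ((proj _ F g)⁻¹ * v * proj _ F g) (proj _ F (regX k F)) := by
    have h := hc.eq
    simp only [x, map_mul, map_inv] at h
    show _ = _
    calc (proj _ F g)⁻¹ * v * proj _ F g * proj _ F (regX k F)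
        = (proj _ F g)⁻¹ * (v * (proj _ F g * proj _ F (regX k F) * (proj _ F g)⁻¹)) * proj _ F g := by group
      _ = (proj _ F g)⁻¹ * (proj _ F g * proj _ F (regX k F) * (proj _ F g)⁻¹ * v) * proj _ F g := by rw [h]
      _ = _ := by group
  have h1 := pElement_of_commute (p := p) hc'
  have hconj : v ^ p ^ (k + 2) = 1 := by
    have h2 : ((proj _ F g)⁻¹ * v * proj _ F g) = (proj _ F g)⁻¹ * v * ((proj _ F g)⁻¹)⁻¹ := by rw [inv_inv]
    rw [h2, conj_pow, conj_eq_one_iff] at h1
    exact h1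
  have : orderOf v = 1 := Nat.eq_one_of_dvd_coprimes (Nat.Coprime.pow_left (k + 2) (hp.coprime_iff_not_dvd.mpr hm))
    (orderOf_dvd_of_pow_eq_one hconj) hov
  exact Subtype.ext (orderOf_eq_one_iff.mp this)

/-- The Sylow subgroup of the preimage of a p-group containing `proj X` fixes a nonzero vector. -/
theorem exists_lift (g : GL (Fin (k + 2)) F) {A : Subgroup (PGL (k + 2) F)} (hA : IsPGroup p A)
    (hg : proj _ F (g * regX k F * g⁻¹) ∈ A) :
    ∃ P : Subgroup (GL (Fin (k + 2)) F), IsPGroup p P ∧ g * regX k F * g⁻¹ ∈ P ∧ A = P.map (proj _ F) := by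
  set X := g * regX k F * g⁻¹
  let At := A.comap (proj (k + 2) F)
  have hX : IsPGroup p (Subgroup.zpowers (⟨X, hg⟩ : At)) := by
    have h : X ^ p ^ (k + 2) = 1 := by
      simp only [X]
      rw [conj_pow, conj_eq_one_iff]
      apply Units.ext
      rw [Units.val_pow_eq_pow_val, coe_regX, Units.val_one,
        add_pow_char_pow_of_commute p (k + 2) (Commute.one_left _), one_pow,
        pow_eq_zero_of_le (le_trans (Nat.lt_two_pow_self).le (Nat.pow_le_pow_left (Fact.out : p.Prime).two_le _)) shiftN_pow,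
        add_zero]
    obtain ⟨j, -, hj⟩ := (Nat.dvd_prime_pow Fact.out).mp (orderOf_dvd_of_pow_eq_one h)
    exact IsPGroup.of_card (n := j) (by rw [Nat.card_zpowers, ← Subgroup.orderOf_coe]; exact hj)
  obtain ⟨P, hP⟩ := hX.exists_le_sylow
  refine ⟨(P : Subgroup At).map At.subtype, P.2.map _, ⟨⟨X, hg⟩, hP (Subgroup.mem_zpowers _), rfl⟩, ?_⟩
  have hsurj : Function.Surjective ((proj (k + 2) F).subgroupComap A) :=
    MonoidHom.subgroupComap_surjective_of_surjective _ _ (QuotientGroup.mk'_surjective _)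
  have htop : (P : Subgroup At).map ((proj (k + 2) F).subgroupComap A) = ⊤ := by
    rw [← Subgroup.index_eq_one]
    obtain ⟨j, hj⟩ := hA.index ((P : Subgroup At).map ((proj (k + 2) F).subgroupComap A))
    rcases Nat.eq_zero_or_pos j with rfl | hj0
    · simpa using hj
    · exact absurd ((dvd_pow_self p hj0.ne').trans (hj ▸ Subgroup.index_map_dvd _ hsurj)) P.not_dvd_index
  ext a
  constructor
  · intro ha
    obtain ⟨b, hb, hbe⟩ := htop.ge (Subgroup.mem_top (⟨a, ha⟩ : A))
    exact ⟨(b : GL (Fin (k + 2)) F), ⟨b, hb, rfl⟩, congrArg Subtype.val hbe⟩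
  · rintro ⟨_, ⟨b, -, rfl⟩, rfl⟩
    exact b.2

/-- A p-group of matrices fixes a nonzero vector. -/
theorem exists_fixed {P : Subgroup (GL (Fin n) F)} (hP : IsPGroup p P) (hn : n ≠ 0) :
    ∃ v : Fin n → F, v ≠ 0 ∧ ∀ Y ∈ P, (Y : Matrix (Fin n) (Fin n) F) *ᵥ v = v := by
  let inst : MulAction P (Fin n → F) :=
    { smul := fun Y v => ((Y : GL (Fin n) F) : Matrix (Fin n) (Fin n) F) *ᵥ v
      one_smul := fun v => one_mulVec v
      mul_smul := fun a b v => (mulVec_mulVec v ((a : GL (Fin n) F) : Matrix (Fin n) (Fin n) F) ((b : GL (Fin n) F) : Matrix (Fin n) (Fin n) F)).symm }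
  have hd : p ∣ Nat.card (Fin n → F) := by
    rw [Nat.card_fun, Nat.card_fin]
    have := Fintype.ofFinite F
    obtain ⟨m, -, hm⟩ := FiniteField.card F p
    rw [Nat.card_eq_fintype_card, hm]
    exact dvd_pow (dvd_pow_self p m.ne_zero) hn
  obtain ⟨v, hv, hne⟩ := hP.exists_fixed_point_of_prime_dvd_card_of_fixed_point (α := Fin n → F) hd
    (a := 0) (fun Y => mulVec_zero _)
  exact ⟨v, hne.symm, fun Y hY => hv ⟨Y, hY⟩⟩

/-- A p-group of matrices fixes a nonzero row vector. -/
theorem exists_fixed_vecMul {P : Subgroup (GL (Fin n) F)} (hP : IsPGroup p P) (hn : n ≠ 0) :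
    ∃ v : Fin n → F, v ≠ 0 ∧ ∀ Y ∈ P, v ᵥ* (Y : Matrix (Fin n) (Fin n) F) = v := by
  let inst : MulAction P (Fin n → F) :=
    { smul := fun Y v => v ᵥ* (((Y⁻¹ : P) : GL (Fin n) F) : Matrix (Fin n) (Fin n) F)
      one_smul := fun v => by show v ᵥ* _ = v; simp
      mul_smul := fun a b v => by
        show v ᵥ* _ = (v ᵥ* _) ᵥ* _
        rw [vecMul_vecMul, ← Units.val_mul, ← Subgroup.coe_mul, _root_.mul_inv_rev] }
  have hd : p ∣ Nat.card (Fin n → F) := by
    rw [Nat.card_fun, Nat.card_fin]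
    have := Fintype.ofFinite F
    obtain ⟨m, -, hm⟩ := FiniteField.card F p
    rw [Nat.card_eq_fintype_card, hm]
    exact dvd_pow (dvd_pow_self p m.ne_zero) hn
  obtain ⟨v, hv, hne⟩ := hP.exists_fixed_point_of_prime_dvd_card_of_fixed_point (α := Fin n → F) hd
    (a := 0) (fun Y => zero_vecMul _)
  refine ⟨v, hne.symm, fun Y hY => ?_⟩
  have := hv (⟨Y, hY⟩⁻¹ : P)
  change v ᵥ* _ = v at this
  simpa using this

/-- A nilpotent subgroup containing a conjugate of the regular unipotent fixes that element's line. -/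
theorem le_lineStab (p : ℕ) [Fact p.Prime] [CharP F p] (g : GL (Fin (k + 2)) F) {A : Subgroup (PGL (k + 2) F)} (hA : Group.IsNilpotent A)
    (hg : proj _ F (g * regX k F * g⁻¹) ∈ A) :
    A ≤ (lineStab ((g : Matrix (Fin (k + 2)) (Fin (k + 2)) F) *ᵥ e0 k F)).map (proj _ F) := by
  obtain ⟨P, hP, hgP, rfl⟩ := exists_lift (p := p) g (isPGroup_of_nilpotent (p := p) g hA hg) hg
  obtain ⟨v, hv0, hv⟩ := exists_fixed hP (by omega)
  refine Subgroup.map_mono fun Y hY => ?_
  set gm : Matrix (Fin (k + 2)) (Fin (k + 2)) F := (g : Matrix (Fin (k + 2)) (Fin (k + 2)) F) with hgm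
  set gi : Matrix (Fin (k + 2)) (Fin (k + 2)) F := ((g⁻¹ : GL (Fin (k + 2)) F) : Matrix (Fin (k + 2)) (Fin (k + 2)) F) with hgi
  have hig : gi * gm = 1 := by rw [hgi, hgm, ← Units.val_mul, inv_mul_cancel, Units.val_one]
  have hgi' : gm * gi = 1 := by rw [hgi, hgm, ← Units.val_mul, mul_inv_cancel, Units.val_one]
  have h0 : shiftN k F *ᵥ (gi *ᵥ v) = 0 := by
    have h := congrArg (gi *ᵥ ·) (hv _ hgP)
    simp only [Units.val_mul, coe_regX, ← hgm, ← hgi, mulVec_mulVec, ← mul_assoc, hig, one_mul, add_mul, add_mulVec] at h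
    rw [mulVec_mulVec]
    exact add_left_cancel (h.trans (add_zero _).symm)
  have hvw : v = (gi *ᵥ v) 0 • (gm *ᵥ e0 k F) := by
    rw [← mulVec_smul, ← eq_smul_e0 h0, mulVec_mulVec, hgi', one_mulVec]
  have hs : (gi *ᵥ v) 0 ≠ 0 := fun e => hv0 (by rw [hvw, e, zero_smul])
  refine ⟨1, ?_⟩
  rw [one_smul, ← inv_smul_smul₀ hs (gm *ᵥ e0 k F), ← hvw, mulVec_smul, hv Y hY]

end Regular

end Cfsg.Agent.Cover.ProjLinear
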