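import Mathlib
import Cfsg.Agent.Lib.Cover.ProjLinear

/-!
Main theorem: groups between `PSL_n(q)` and `PGL_n(q)` have no nilpotent minimal cover
(`n ≥ 3`, or `n = 2` and `q ≥ 4`).
-/

set_option autoImplicit false
set_option maxHeartbeats 1600000

namespace Cfsg.Agent.Cover.ProjLinear

open Matrix

variable {F : Type*} [Field F] [Finite F] {n : ℕ}

omit [Finite F] in
theorem proj_mem_of_det_one {G : Subgroup (PGL n F)}
    (hG : ((Matrix.SpecialLinearGroup.toGL : Matrix.SpecialLinearGroup (Fin n) F →* GL (Fin n) F).range).map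
      (proj n F) ≤ G)
    {Y : GL (Fin n) F} (h : (Y : Matrix (Fin n) (Fin n) F).det = 1) : proj n F Y ∈ G :=
  hG ⟨Y, ⟨⟨_, h⟩, Units.ext rfl⟩, rfl⟩

omit [Finite F] in
theorem det_conj_eq (g X : GL (Fin n) F) :
    ((g * X * g⁻¹ : GL (Fin n) F) : Matrix (Fin n) (Fin n) F).det = (X : Matrix (Fin n) (Fin n) F).det := by
  rw [Units.val_mul, Units.val_mul, det_mul, det_mul, mul_comm (det _) (det _), mul_assoc, ← det_mul,
    ← Units.val_mul, mul_inv_cancel, Units.val_one, det_one, mul_one]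

omit [Finite F] in
theorem nilpotent_map {G : Subgroup (PGL n F)} {A : Subgroup G} (hA : Group.IsNilpotent A) :
    Group.IsNilpotent (A.map G.subtype) :=
  (Group.isNilpotent_congr (A.equivMapOfInjective _ G.subtype_injective)).mp hA

/-- The transvection `1 + c E_{ij}` as an element of `GL_n`. -/
noncomputable def tv (i j : Fin n) (hij : i ≠ j) (c : F) : GL (Fin n) F :=
  GeneralLinearGroup.mkOfDetNeZero (Matrix.transvection i j c) (by rw [det_transvection_of_ne i j hij]; exact one_ne_zero)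

omit [Finite F] in
theorem transvection_mulVec (i j : Fin n) (c : F) (v : Fin n → F) :
    Matrix.transvection i j c *ᵥ v = v + Pi.single i (c * v j) := by
  funext t
  simp [Matrix.transvection, Matrix.mulVec, dotProduct, Matrix.single, Pi.single_apply,
    Finset.sum_add_distrib, Matrix.one_apply, Finset.sum_ite_eq, ite_and, eq_comm, add_mul]

omit [Finite F] in
theorem vecMul_transvection (i j : Fin n) (c : F) (v : Fin n → F) :
    v ᵥ* Matrix.transvection i j c = v + Pi.single j (v i * c) := by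
  funext t
  simp [Matrix.transvection, Matrix.vecMul, dotProduct, Matrix.single, Pi.single_apply,
    Finset.sum_add_distrib, Matrix.one_apply, Finset.sum_ite_eq, ite_and, eq_comm, mul_add]

omit [Finite F] in
theorem eigen_vecMul_regX {k : ℕ} {v : Fin (k + 2) → F} {c : F} (hv : v ≠ 0)
    (h : v ᵥ* (regX k F : Matrix (Fin (k + 2)) (Fin (k + 2)) F) = c • v) :
    ∀ j : Fin (k + 2), (j : ℕ) < k + 1 → v j = 0 := by
  have hj : ∀ j : Fin (k + 2), v j + (if h : 0 < (j : ℕ) then v ⟨j - 1, by omega⟩ else 0) = c * v j := by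
    intro j
    have := congrFun h j
    rw [coe_regX, vecMul_add, vecMul_one, Pi.add_apply, vecMul_shiftN, Pi.smul_apply, smul_eq_mul] at this
    exact this
  have hc : c = 1 := by
    by_contra hc
    apply hv
    have hne : ∀ x : F, x = c * x → x = 0 := fun x hx => by
      have : (1 - c) * x = 0 := by linear_combination hx
      exact (mul_eq_zero.mp this).resolve_left (sub_ne_zero.mpr (Ne.symm hc))
    funext j
    obtain ⟨j, hjlt⟩ := j
    induction j with
    | zero => exact hne _ (by simpa using hj ⟨0, hjlt⟩)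
    | succ j ih =>
      have h0 : v ⟨j, by omega⟩ = 0 := ih (by omega)
      refine hne _ ?_
      have := hj ⟨j + 1, hjlt⟩
      simpa [h0] using this
  intro j hjlt
  have := hj ⟨(j : ℕ) + 1, by omega⟩
  simpa [hc] using this

theorem no_cover_three {k : ℕ} (hk : 1 ≤ k) (G : Subgroup (PGL (k + 2) F))
    (hG : ((Matrix.SpecialLinearGroup.toGL : Matrix.SpecialLinearGroup (Fin (k + 2)) F →* GL (Fin (k + 2)) F).range).map
      (proj (k + 2) F) ≤ G) : ¬ ∃ 𝓐 : Finset (Subgroup G), Cover.IsMinNilCover 𝓐 := by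
  obtain ⟨p, _⟩ := CharP.exists F
  have : Fact p.Prime := ⟨CharP.char_is_prime F p⟩
  let i1 : Fin (k + 2) := ⟨1, by omega⟩
  let il : Fin (k + 2) := Fin.last (k + 1)
  have hil : il ≠ i1 := Fin.ne_of_val_ne (by simp [il, i1]; omega)
  let T := tv il i1 hil (1 : F)
  have hT0 : (T : Matrix (Fin (k + 2)) (Fin (k + 2)) F) *ᵥ e0 k F = e0 k F := by
    show Matrix.transvection il i1 1 *ᵥ _ = _
    rw [transvection_mulVec, e0, Pi.single_eq_of_ne (Fin.ne_of_val_ne (by simp [i1])), mul_zero, Pi.single_zero, add_zero]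
  have hX : (regX k F : Matrix (Fin (k + 2)) (Fin (k + 2)) F).det = 1 := det_one_add_shiftN
  refine Cover.not_exists_of_pair
    (x := (⟨proj _ F (regX k F), proj_mem_of_det_one hG hX⟩ : G))
    (y := (⟨proj _ F (T * regX k F * T⁻¹), proj_mem_of_det_one hG (by rw [det_conj_eq, hX])⟩ : G))
    (M := ((lineStab (e0 k F)).map (proj _ F)).subgroupOf G) ?_ (fun A hA hxA => ?_) (fun A hA hyA => ?_)
    (fun A hA hxA hyA => ?_)
  · intro htop
    have h01 : (i1 : Fin (k + 2)) ≠ 0 := Fin.ne_of_val_ne (by simp [i1])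
    have hm : (tv i1 0 h01 (1 : F) : GL (Fin (k + 2)) F) ∈ lineStab (e0 k F) := proj_mem_lineStab
      ((htop ▸ Subgroup.mem_top (⟨_, proj_mem_of_det_one hG (det_transvection_of_ne i1 0 h01 1)⟩ : G) :
        (⟨proj _ F (tv i1 0 h01 (1 : F)), _⟩ : G) ∈ ((lineStab (e0 k F)).map (proj _ F)).subgroupOf G))
    obtain ⟨c, hc⟩ := hm
    have := congrFun (show Matrix.transvection i1 0 1 *ᵥ e0 k F = c • e0 k F from hc) i1
    rw [transvection_mulVec] at this
    simp [e0, h01] at this
  · intro a ha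
    have hmem : proj _ F (regX k F) ∈ A.map G.subtype := ⟨_, hxA, rfl⟩
    have h := le_lineStab p 1 (nilpotent_map hA) (by rw [one_mul, inv_one, mul_one]; exact hmem)
    rw [Units.val_one, one_mulVec] at h
    exact h ⟨a, ha, rfl⟩
  · intro a ha
    have hmem : proj _ F (T * regX k F * T⁻¹) ∈ A.map G.subtype := ⟨_, hyA, rfl⟩
    have h := le_lineStab p T (nilpotent_map hA) hmem
    rw [hT0] at h
    exact h ⟨a, ha, rfl⟩
  · have hx : proj _ F (1 * regX k F * 1⁻¹) ∈ A.map G.subtype := by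
      rw [one_mul, inv_one, mul_one]; exact ⟨_, hxA, rfl⟩
    have hy : proj _ F (T * regX k F * T⁻¹) ∈ A.map G.subtype := ⟨_, hyA, rfl⟩
    obtain ⟨P, hP, hXP, hAP⟩ := exists_lift (p := p) 1 (isPGroup_of_nilpotent (p := p) 1 (nilpotent_map hA) hx) hx
    obtain ⟨v, hv0, hv⟩ := exists_fixed_vecMul (p := p) hP (by omega)
    rw [one_mul, inv_one, mul_one] at hXP
    have hvl : ∀ j : Fin (k + 2), (j : ℕ) < k + 1 → v j = 0 :=
      eigen_vecMul_regX hv0 (c := 1) (by rw [one_smul]; exact hv _ hXP)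
    rw [hAP] at hy
    obtain ⟨Z, hZP, hZ⟩ := hy
    obtain ⟨c, hc0, hc⟩ := exists_smul_of_proj_eq hZ
    have h1 : v ᵥ* ((T * regX k F * T⁻¹ : GL (Fin (k + 2)) F) : Matrix (Fin (k + 2)) (Fin (k + 2)) F) = c⁻¹ • v := by
      conv_rhs => rw [← hv Z hZP, hc, vecMul_smul, smul_smul, inv_mul_cancel₀ hc0, one_smul]
    have h2 : (v ᵥ* (T : Matrix (Fin (k + 2)) (Fin (k + 2)) F)) ᵥ* (regX k F : Matrix (Fin (k + 2)) (Fin (k + 2)) F)
        = c⁻¹ • (v ᵥ* (T : Matrix (Fin (k + 2)) (Fin (k + 2)) F)) := by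
      rw [← smul_vecMul, ← h1, vecMul_vecMul, vecMul_vecMul, ← Units.val_mul, ← Units.val_mul]
      group
    have hu0 : v ᵥ* (T : Matrix (Fin (k + 2)) (Fin (k + 2)) F) ≠ 0 := fun e => hv0 (by
      have := congrArg (· ᵥ* ((T⁻¹ : GL (Fin (k + 2)) F) : Matrix (Fin (k + 2)) (Fin (k + 2)) F)) e
      simp only [vecMul_vecMul, ← Units.val_mul, mul_inv_cancel, Units.val_one, vecMul_one, zero_vecMul] at this
      exact this)
    have h3 := eigen_vecMul_regX hu0 h2 i1 (by simp [i1]; omega)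
    change (v ᵥ* Matrix.transvection il i1 1) i1 = 0 at h3
    rw [vecMul_transvection, Pi.add_apply, hvl i1 (by simp [i1]; omega), zero_add, Pi.single_eq_same, mul_one] at h3
    apply hv0
    funext j
    by_cases hj : (j : ℕ) < k + 1
    · exact hvl j hj
    · rw [show j = il from Fin.ext (by simp [il]; omega)]; exact h3

/-! ### `n = 2` -/

/-- `diag(a, a⁻¹)`. -/
noncomputable def torElt (a : F) (ha : a ≠ 0) : GL (Fin 2) F :=
  GeneralLinearGroup.mkOfDetNeZero (diagonal ![a, a⁻¹]) (by simp [det_diagonal, Fin.prod_univ_two, ha])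

omit [Finite F] in
theorem det_torElt (a : F) (ha : a ≠ 0) : (torElt a ha : Matrix (Fin 2) (Fin 2) F).det = 1 := by
  show (diagonal ![a, a⁻¹]).det = 1
  simp [det_diagonal, Fin.prod_univ_two, ha]

omit [Finite F] in
theorem proj_torElt_ne_one {a : F} (ha : a ≠ 0) (ha2 : a * a ≠ 1) : proj 2 F (torElt a ha) ≠ 1 := by
  intro h
  obtain ⟨c, -, hc⟩ := exists_scalar ((QuotientGroup.eq_one_iff _).mp h)
  change diagonal ![a, a⁻¹] = c • 1 at hc
  rw [smul_one_eq_diagonal, diagonal_eq_diagonal_iff] at hc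
  have e0' : a = c := hc 0
  have e1' : a⁻¹ = c := hc 1
  exact ha2 (by nth_rw 2 [e0']; rw [← e1', mul_inv_cancel₀ ha])

omit [Finite F] in
/-- Entries of a matrix commuting with `diag(a, a⁻¹)` up to scalars. -/
theorem commute_torElt {a : F} (ha : a ≠ 0) {Y : GL (Fin 2) F}
    (h : Commute (proj 2 F Y) (proj 2 F (torElt a ha))) (ha2 : a * a ≠ 1) :
    ((Y : Matrix (Fin 2) (Fin 2) F) 0 1 = 0 ∧ (Y : Matrix (Fin 2) (Fin 2) F) 1 0 = 0) ∨
      ((Y : Matrix (Fin 2) (Fin 2) F) 0 0 = 0 ∧ (Y : Matrix (Fin 2) (Fin 2) F) 1 1 = 0 ∧ a * a * (a * a) = 1) := by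
  obtain ⟨c, -, hc⟩ := exists_smul_of_proj_eq (Y := Y * torElt a ha) (Z := torElt a ha * Y)
    (by rw [map_mul, map_mul]; exact h.eq)
  change (Y : Matrix (Fin 2) (Fin 2) F) * diagonal ![a, a⁻¹] = c • (diagonal ![a, a⁻¹] * (Y : Matrix (Fin 2) (Fin 2) F)) at hc
  have hd := (Y.isUnit.map (Matrix.detMonoidHom (n := Fin 2) (R := F))).ne_zero
  simp only [Matrix.coe_detMonoidHom, det_fin_two] at hd
  have e : ∀ i j, (Y : Matrix (Fin 2) (Fin 2) F) i j * ![a, a⁻¹] j = c * (![a, a⁻¹] i * (Y : Matrix (Fin 2) (Fin 2) F) i j) := by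
    intro i j
    have := congrFun (congrFun hc i) j
    rwa [mul_diagonal, Matrix.smul_apply, diagonal_mul, smul_eq_mul] at this
  set M : Matrix (Fin 2) (Fin 2) F := (Y : Matrix (Fin 2) (Fin 2) F)
  have hai : a * a⁻¹ = 1 := mul_inv_cancel₀ ha
  have f00 : M 0 0 * (a * (1 - c)) = 0 := by have := e 0 0; simp at this; linear_combination this
  have f11 : M 1 1 * (a⁻¹ * (1 - c)) = 0 := by have := e 1 1; simp at this; linear_combination this
  have f01 : M 0 1 * (a⁻¹ - c * a) = 0 := by have := e 0 1; simp at this; linear_combination this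
  have f10 : M 1 0 * (a - c * a⁻¹) = 0 := by have := e 1 0; simp at this; linear_combination this
  by_cases hc1 : c = 1
  · subst hc1
    have h1 : a⁻¹ - 1 * a ≠ 0 := fun e => ha2 (by linear_combination -a * e + hai)
    have h2 : a - 1 * a⁻¹ ≠ 0 := fun e => ha2 (by linear_combination a * e + hai)
    exact Or.inl ⟨(mul_eq_zero.mp f01).resolve_right h1, (mul_eq_zero.mp f10).resolve_right h2⟩
  · have hc' : 1 - c ≠ 0 := sub_ne_zero.mpr (Ne.symm hc1)
    have h00 := (mul_eq_zero.mp f00).resolve_right (mul_ne_zero ha hc')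
    have h11 := (mul_eq_zero.mp f11).resolve_right (mul_ne_zero (inv_ne_zero ha) hc')
    rw [h00, zero_mul, zero_sub, neg_ne_zero] at hd
    have h1 := (mul_eq_zero.mp f01).resolve_left (left_ne_zero_of_mul hd)
    have h2 := (mul_eq_zero.mp f10).resolve_left (right_ne_zero_of_mul hd)
    refine Or.inr ⟨h00, h11, ?_⟩
    have e1 : c * (a * a) = 1 := by linear_combination -a * h1 + hai
    have e2 : a * a = c := by linear_combination a * h2 + c * hai
    linear_combination e1 + (a * a) * e2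

omit [Finite F] in
theorem mem_torus_sq {M : Matrix (Fin 2) (Fin 2) F} (hd : M.det ≠ 0)
    (h0 : M 0 0 * M 0 1 = 0) (h1 : M 1 0 * M 1 1 = 0) : (M * M) 0 1 = 0 ∧ (M * M) 1 0 = 0 := by
  rw [det_fin_two] at hd
  have h01 : M 0 1 * M 1 1 = 0 := by
    by_contra h
    have e0 := (mul_eq_zero.mp h0).resolve_right (left_ne_zero_of_mul h)
    have e1 := (mul_eq_zero.mp h1).resolve_right (right_ne_zero_of_mul h)
    rw [e0, e1] at hd; simp at hd
  have h10 : M 1 0 * M 0 0 = 0 := by
    by_contra h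
    have e0 := (mul_eq_zero.mp h0).resolve_left (right_ne_zero_of_mul h)
    have e1 := (mul_eq_zero.mp h1).resolve_left (left_ne_zero_of_mul h)
    rw [e0, e1] at hd; simp at hd
  constructor <;> simp [Matrix.mul_apply, Fin.sum_univ_two]
  · linear_combination h0 + h01
  · linear_combination h10 + h1

omit [Finite F] in
theorem mem_lineStab_of_upper [Finite F] {Y : GL (Fin 2) F} (h : (Y : Matrix (Fin 2) (Fin 2) F) 1 0 = 0) :
    Y ∈ lineStab (e0 0 F) :=
  ⟨(Y : Matrix (Fin 2) (Fin 2) F) 0 0, funext fun i => by fin_cases i <;> simp [e0, h]⟩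

theorem no_cover_two_odd {r : ℕ} (hr : r.Prime) (hr2 : r ≠ 2) (hrd : r ∣ Nat.card F - 1) (G : Subgroup (PGL 2 F))
    (hG : ((Matrix.SpecialLinearGroup.toGL : Matrix.SpecialLinearGroup (Fin 2) F →* GL (Fin 2) F).range).map
      (proj 2 F) ≤ G) : ¬ ∃ 𝓐 : Finset (Subgroup G), Cover.IsMinNilCover 𝓐 := by
  classical
  have := Fact.mk hr
  obtain ⟨au, hau⟩ := exists_prime_orderOf_dvd_card' (G := Fˣ) r (by rwa [Nat.card_units])
  set a : F := (au : F) with hadef
  have ha : a ≠ 0 := au.ne_zero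
  have hpow : ∀ i, a ^ i = 1 → r ∣ i := fun i hi => hau ▸ orderOf_dvd_of_pow_eq_one (Units.ext (by simpa using hi))
  have ha2 : a * a ≠ 1 := fun e => hr2 ((Nat.prime_dvd_prime_iff_eq hr Nat.prime_two).mp (hpow 2 (by rw [pow_two]; exact e)))
  have ha4 : a * a * (a * a) ≠ 1 := fun e => hr2 ((Nat.prime_dvd_prime_iff_eq hr Nat.prime_two).mp
    (hr.dvd_of_dvd_pow (show r ∣ 2 ^ 2 from hpow 4 (by rw [← e]; ring))))
  set x := proj 2 F (torElt a ha) with hxdef
  have hx1 : x ≠ 1 := proj_torElt_ne_one ha ha2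
  have hxr : x ^ r = 1 := by
    rw [hxdef, ← map_pow]
    have : torElt a ha ^ r = 1 := by
      apply Units.ext
      rw [Units.val_pow_eq_pow_val, Units.val_one]
      show (diagonal ![a, a⁻¹]) ^ r = 1
      have har : a ^ r = 1 := by rw [hadef, ← Units.val_pow_eq_pow_val, ← hau, pow_orderOf_eq_one, Units.val_one]
      rw [diagonal_pow, ← diagonal_one]
      congr 1
      funext i
      fin_cases i <;> simp [har]
    rw [this, map_one]
  have hox : orderOf x = r := orderOf_eq_prime hxr hx1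
  have hC : ∀ Y : GL (Fin 2) F, Commute (proj 2 F Y) x →
      (Y : Matrix (Fin 2) (Fin 2) F) 0 1 = 0 ∧ (Y : Matrix (Fin 2) (Fin 2) F) 1 0 = 0 := fun Y hY =>
    (commute_torElt ha hY ha2).resolve_right fun h => ha4 h.2.2
  have hdiagC : ∀ Y : GL (Fin 2) F, (Y : Matrix (Fin 2) (Fin 2) F) 0 1 = 0 →
      (Y : Matrix (Fin 2) (Fin 2) F) 1 0 = 0 → Commute (proj 2 F Y) x := by
    intro Y h01 h10
    show proj 2 F Y * proj 2 F (torElt a ha) = proj 2 F (torElt a ha) * proj 2 F Y
    rw [← map_mul, ← map_mul]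
    congr 1
    apply Units.ext
    rw [Units.val_mul, Units.val_mul]
    show (Y : Matrix (Fin 2) (Fin 2) F) * diagonal ![a, a⁻¹] = diagonal ![a, a⁻¹] * (Y : Matrix (Fin 2) (Fin 2) F)
    ext i j
    rw [mul_diagonal, diagonal_mul]
    fin_cases i <;> fin_cases j <;> simp [h01, h10, mul_comm]
  have key : ∀ A : Subgroup (PGL 2 F), Group.IsNilpotent A → x ∈ A → ∀ b ∈ A, Commute b x := by
    intro A hA hxA
    let D : Subgroup A :=
      { carrier := {b | Commute (b : PGL 2 F) x}
        one_mem' := Commute.one_left x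
        mul_mem' := fun ha hb => ha.mul_left hb
        inv_mem' := fun ha => ha.inv_left }
    have hD : Subgroup.normalizer (D : Set A) = D := by
      refine le_antisymm (fun m hm => ?_) Subgroup.le_normalizer
      have hconj : Commute ((m * ⟨x, hxA⟩ * m⁻¹ : A) : PGL 2 F) x :=
        (Subgroup.mem_normalizer_iff.mp hm _).mp (Commute.refl x : (⟨x, hxA⟩ : A) ∈ D)
      obtain ⟨Y, hY⟩ := QuotientGroup.mk'_surjective (Subgroup.center (GL (Fin 2) F)) (m : PGL 2 F)
      have hW : ((m * ⟨x, hxA⟩ * m⁻¹ : A) : PGL 2 F) = proj 2 F (Y * torElt a ha * Y⁻¹) := by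
        rw [map_mul, map_mul, map_inv, hY]; rfl
      rw [hW] at hconj
      obtain ⟨w01, w10⟩ := hC _ hconj
      set W : Matrix (Fin 2) (Fin 2) F := ((Y * torElt a ha * Y⁻¹ : GL (Fin 2) F) : Matrix (Fin 2) (Fin 2) F) with hWdef
      have hrel : (Y : Matrix (Fin 2) (Fin 2) F) * diagonal ![a, a⁻¹] = W * (Y : Matrix (Fin 2) (Fin 2) F) := by
        rw [hWdef, ← Units.val_mul, inv_mul_cancel_right]; rfl
      have hWd : W = diagonal fun i => W i i := by
        ext i j; fin_cases i <;> fin_cases j <;> simp [w01, w10]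
      rw [hWd] at hrel
      have hmono : ∀ i, (Y : Matrix (Fin 2) (Fin 2) F) i 0 * (Y : Matrix (Fin 2) (Fin 2) F) i 1 = 0 := by
        intro i
        by_contra hne
        have e0 := congrFun (congrFun hrel i) 0
        have e1 := congrFun (congrFun hrel i) 1
        rw [mul_diagonal, diagonal_mul, mul_comm (W i i)] at e0 e1
        have f0 := mul_left_cancel₀ (left_ne_zero_of_mul hne) e0
        have f1 := mul_left_cancel₀ (right_ne_zero_of_mul hne) e1
        simp at f0 f1
        exact ha2 (by nth_rw 2 [f0]; rw [← f1, mul_inv_cancel₀ ha])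
      obtain ⟨s01, s10⟩ := mem_torus_sq ((Y.isUnit.map (Matrix.detMonoidHom (n := Fin 2) (R := F))).ne_zero)
        (hmono 0) (hmono 1)
      have hm2 : m ^ 2 ∈ D := by
        show Commute ((m ^ 2 : A) : PGL 2 F) x
        rw [Subgroup.coe_pow, ← hY, pow_two, ← map_mul]
        exact hdiagC _ (by rwa [Units.val_mul]) (by rwa [Units.val_mul])
      obtain ⟨i, l, hl, hn⟩ := Nat.exists_eq_pow_mul_and_not_dvd (orderOf_pos m).ne' 2 (by norm_num)
      have hml : m ^ l ∈ D := by
        have hd : orderOf ((m ^ l : A) : PGL 2 F) ∣ 2 ^ i := orderOf_dvd_of_pow_eq_one (by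
          rw [← Subgroup.coe_pow, ← pow_mul, mul_comm l, ← hn, pow_orderOf_eq_one, Subgroup.coe_one])
        exact (commute_pPrimePart hA hxA (m ^ l).2
          ((hox ▸ (Nat.Coprime.pow_right i ((Nat.coprime_primes hr Nat.prime_two).mpr hr2))).coprime_dvd_right hd)).symm
      obtain ⟨s, rfl⟩ : ∃ s, l = 2 * s + 1 := ⟨l / 2, by omega⟩
      have h2s := D.mul_mem (D.inv_mem (D.pow_mem hm2 s)) hml
      rwa [← pow_mul, pow_succ, inv_mul_cancel_left] at h2s
    have htop := (normalizerCondition_iff_only_full_group_self_normalizing.mp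
      (Group.normalizerCondition_of_isNilpotent (h := hA))) D hD
    exact fun b hb => (show (⟨b, hb⟩ : A) ∈ D from htop ▸ Subgroup.mem_top _)
  have hupper : ∀ b : PGL 2 F, Commute b x → b ∈ (lineStab (e0 0 F)).map (proj 2 F) := by
    intro b hb
    obtain ⟨Y, rfl⟩ := QuotientGroup.mk'_surjective _ b
    exact ⟨Y, mem_lineStab_of_upper (hC Y hb).2, rfl⟩
  let U := proj 2 F (regX 0 F)
  have hU : U ∈ (lineStab (e0 0 F)).map (proj 2 F) :=
    ⟨regX 0 F, mem_lineStab_of_upper (by simp [coe_regX, shiftN]), rfl⟩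
  refine Cover.not_exists_of_pair
    (x := (⟨x, proj_mem_of_det_one hG (det_torElt a ha)⟩ : G))
    (y := (⟨proj 2 F (regX 0 F * torElt a ha * (regX 0 F)⁻¹), proj_mem_of_det_one hG (by rw [det_conj_eq, det_torElt])⟩ : G))
    (M := ((lineStab (e0 0 F)).map (proj 2 F)).subgroupOf G) ?_ (fun A hA hxA => ?_) (fun A hA hyA => ?_)
    (fun A hA hxA hyA => ?_)
  · intro htop
    have h10 : (1 : Fin 2) ≠ 0 := by decide
    have hm : (tv 1 0 h10 (1 : F) : GL (Fin 2) F) ∈ lineStab (e0 0 F) := proj_mem_lineStab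
      ((htop ▸ Subgroup.mem_top (⟨_, proj_mem_of_det_one hG (det_transvection_of_ne 1 0 h10 1)⟩ : G) :
        (⟨proj _ F (tv 1 0 h10 (1 : F)), _⟩ : G) ∈ ((lineStab (e0 0 F)).map (proj _ F)).subgroupOf G))
    obtain ⟨c, hc⟩ := hm
    have := congrFun (show Matrix.transvection (1 : Fin 2) 0 1 *ᵥ e0 0 F = c • e0 0 F from hc) 1
    rw [transvection_mulVec] at this
    simp [e0] at this
  · intro b hb
    exact hupper _ (key _ (nilpotent_map hA) ⟨_, hxA, rfl⟩ _ ⟨b, hb, rfl⟩)
  · intro b hb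
    let A' := (A.map G.subtype).map (MulAut.conj U⁻¹).toMonoidHom
    have hA' : Group.IsNilpotent A' :=
      (Group.isNilpotent_congr ((A.map G.subtype).equivMapOfInjective _ (MulAut.conj U⁻¹).injective)).mp (nilpotent_map hA)
    have hxA' : x ∈ A' := ⟨_, ⟨_, hyA, rfl⟩, by simp [U, hxdef, map_mul, map_inv, mul_assoc]⟩
    have h := hupper _ (key A' hA' hxA' _ ⟨_, ⟨b, hb, rfl⟩, rfl⟩)
    have h2 := Subgroup.mul_mem _ (Subgroup.mul_mem _ hU h) (Subgroup.inv_mem _ hU)
    simpa [Subgroup.mem_subgroupOf, mul_assoc] using h2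
  · have hc := key _ (nilpotent_map hA) ⟨_, hxA, rfl⟩ _ ⟨_, hyA, rfl⟩
    obtain ⟨h01, -⟩ := hC _ hc
    have hne : a⁻¹ - a ≠ 0 := fun e => ha2 (by nth_rw 2 [← sub_eq_zero.mp e]; exact mul_inv_cancel₀ ha)
    have hX : ((regX 0 F)⁻¹ : GL (Fin 2) F).val = 1 - shiftN 0 F := by
      refine Units.inv_eq_of_mul_eq_one_right ?_
      rw [coe_regX]
      have h2 := shiftN_pow (k := 0) (F := F)
      rw [pow_two] at h2
      calc (1 + shiftN 0 F) * (1 - shiftN 0 F) = 1 - shiftN 0 F * shiftN 0 F := by noncomm_ring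
        _ = 1 := by rw [h2, sub_zero]
    rw [Units.val_mul, Units.val_mul, hX, coe_regX] at h01
    apply hne
    change ((1 + shiftN 0 F) * diagonal ![a, a⁻¹] * (1 - shiftN 0 F)) 0 1 = 0 at h01
    simp [Matrix.mul_apply, Fin.sum_univ_two, shiftN, diagonal] at h01
    linear_combination h01

/-- A vector on each line of `F²`. -/
def pt : Option F → Fin 2 → F
  | none => ![1, 0]
  | some t => ![t, 1]

/-- A matrix of determinant one sending `e₀` to `pt o`. -/
noncomputable def ptMat : Option F → GL (Fin 2) F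
  | none => 1
  | some t => GeneralLinearGroup.mkOfDetNeZero !![t, -1; 1, 0] (by simp [det_fin_two])

omit [Finite F] in
theorem ptMat_mulVec (o : Option F) : (ptMat o : Matrix (Fin 2) (Fin 2) F) *ᵥ e0 0 F = pt o := by
  cases o with
  | none => funext i; fin_cases i <;> simp [ptMat, pt, e0]
  | some t =>
    show !![t, -1; 1, 0] *ᵥ e0 0 F = pt (some t)
    funext i; fin_cases i <;> simp [pt, e0]

omit [Finite F] in
theorem pt_smul {o o' : Option F} {c : F} (h : pt o = c • pt o') : o = o' := by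
  have h0 := congrFun h 0
  have h1 := congrFun h 1
  cases o <;> cases o' <;> simp [pt] at h0 h1 ⊢
  · rw [← h1] at h0; simp at h0
  · subst h1; linear_combination h0

omit [Finite F] in
theorem exists_pt {v : Fin 2 → F} (hv : v ≠ 0) : ∃ (o : Option F) (c : F), c ≠ 0 ∧ v = c • pt o := by
  by_cases h : v 1 = 0
  · refine ⟨none, v 0, fun e => hv (funext fun i => by fin_cases i <;> simp [e, h]), funext fun i => ?_⟩
    fin_cases i <;> simp [pt, h]
  · refine ⟨some (v 0 / v 1), v 1, h, funext fun i => ?_⟩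
    fin_cases i <;> simp [pt, mul_div_cancel₀ _ h]

omit [Finite F] in
theorem card_sq_sub_one (q : ℕ) : q ^ 2 - 1 = (q + 1) * (q - 1) := by
  have := Nat.sq_sub_sq q 1
  simpa using this

theorem no_cover_two_pow {r : ℕ} (hr : r.Prime) (hr2 : r ≠ 2) (hrd : r ∣ Nat.card F + 1) (hq : 4 ≤ Nat.card F)
    (hodd : ∀ s : ℕ, s.Prime → s ∣ Nat.card F - 1 → s = 2)
    (G : Subgroup (PGL 2 F))
    (hG : ((Matrix.SpecialLinearGroup.toGL : Matrix.SpecialLinearGroup (Fin 2) F →* GL (Fin 2) F).range).map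
      (proj 2 F) ≤ G) : ¬ ∃ 𝓐 : Finset (Subgroup G), Cover.IsMinNilCover 𝓐 := by
  classical
  have := Fintype.ofFinite F
  obtain ⟨p, _⟩ := CharP.exists F
  have hpp : p.Prime := CharP.char_is_prime F p
  have := Fact.mk hpp
  have := Fact.mk hr
  obtain ⟨mm, -, hpm⟩ := FiniteField.card F p
  rw [← Nat.card_eq_fintype_card] at hpm
  set q := Nat.card F with hqdef
  have hpq : p ∣ q := hpm ▸ dvd_pow_self p mm.ne_zero
  have hrp : r ≠ p := by
    rintro rfl
    exact hr.ne_one (Nat.dvd_one.mp ((Nat.dvd_add_right hpq).mp hrd))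
  have hrq : ¬ r ∣ q - 1 := fun h => hr2 (hodd r hr h)
  have hqeven : 2 ∣ q - 1 := by
    obtain ⟨s, hs, hsd⟩ := Nat.exists_prime_and_dvd (show q - 1 ≠ 1 by omega)
    exact hodd s hs hsd ▸ hsd
  rintro ⟨𝓐, hmc⟩
  -- unipotent members
  let u : Option F → G := fun o => ⟨proj 2 F (ptMat o * regX 0 F * (ptMat o)⁻¹),
    proj_mem_of_det_one hG (by rw [det_conj_eq]; exact det_one_add_shiftN)⟩
  choose Au hAu huA using fun o => hmc.1.2 (u o)
  have hAup : ∀ o, IsPGroup p ((Au o).map G.subtype) := fun o =>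
    isPGroup_of_nilpotent (p := p) (ptMat o) (nilpotent_map (hmc.2.2 _ (hAu o))) ⟨_, huA o, rfl⟩
  let B : Option F → Subgroup G := fun o => ((lineStab (pt o)).map (proj 2 F)).subgroupOf G
  have hfix : ∀ o o', u o' ∈ B o → o = o' := by
    intro o o' h
    obtain ⟨c, hc⟩ := proj_mem_lineStab (Subgroup.mem_subgroupOf.mp h)
    set g := ptMat o'
    set gm : Matrix (Fin 2) (Fin 2) F := (g : Matrix (Fin 2) (Fin 2) F) with hgm
    set gi : Matrix (Fin 2) (Fin 2) F := ((g⁻¹ : GL (Fin 2) F) : Matrix (Fin 2) (Fin 2) F) with hgi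
    have hgi' : gm * gi = 1 := by rw [hgi, hgm, ← Units.val_mul, mul_inv_cancel, Units.val_one]
    set w := gi *ᵥ pt o with hw
    have hpo : pt o = gm *ᵥ w := by rw [hw, mulVec_mulVec, hgi', one_mulVec]
    have hig : gi * gm = 1 := by rw [hgi, hgm, ← Units.val_mul, inv_mul_cancel, Units.val_one]
    have hXw : (1 + shiftN 0 F) *ᵥ w = c • w := by
      have h1 := congrArg (gi *ᵥ ·) hc
      simp only [Units.val_mul, coe_regX, ← hgm, ← hgi, mulVec_mulVec, ← mul_assoc, hig, one_mul, mulVec_smul] at h1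
      rw [← hw] at h1
      rw [hw, mulVec_mulVec, ← hw]
      exact h1
    have e1 := congrFun hXw 1
    have e0' := congrFun hXw 0
    simp [shiftN] at e0' e1
    have hw1 : w 1 = 0 := by
      by_contra hne
      rw [show c = 1 from mul_right_cancel₀ hne (by rw [one_mul]; exact e1.symm), one_mul] at e0'
      exact hne (add_left_cancel (e0'.trans (add_zero _).symm))
    refine pt_smul (c := w 0) ?_
    rw [hpo, ← ptMat_mulVec o', ← mulVec_smul]
    congr 1
    funext i
    fin_cases i <;> simp [e0, hw1]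
  have hAuB : ∀ o, Au o ≤ B o := fun o a ha => by
    have h := le_lineStab p (ptMat o) (nilpotent_map (hmc.2.2 _ (hAu o))) ⟨_, huA o, rfl⟩
    rw [ptMat_mulVec] at h
    exact h ⟨a, ha, rfl⟩
  have hAuinj : Function.Injective Au := fun o o' h => hfix o o' (hAuB o (h.symm ▸ huA o'))
  -- a split torus element
  obtain ⟨au, hau⟩ := IsCyclic.exists_ofOrder_eq_natCard (α := Fˣ)
  rw [Nat.card_units, ← hqdef] at hau
  set a : F := (au : F) with hadef
  have ha : a ≠ 0 := au.ne_zero
  have ha2 : a * a ≠ 1 := fun e => by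
    have h := Nat.le_of_dvd two_pos (hau ▸ orderOf_dvd_of_pow_eq_one (Units.ext (by simpa [pow_two] using e) : au ^ 2 = 1))
    omega
  have hunit : ∀ b : F, b ≠ 0 → b ^ (q - 1) = 1 := fun b hb => by
    rw [hqdef, Nat.card_eq_fintype_card]; exact FiniteField.pow_card_sub_one_eq_one b hb
  have hCpow : ∀ b : PGL 2 F, Commute b (proj 2 F (torElt a ha)) → b ^ (q - 1) = 1 := by
    intro b hb
    obtain ⟨Y, rfl⟩ := QuotientGroup.mk'_surjective _ b
    have hd := (Y.isUnit.map (Matrix.detMonoidHom (n := Fin 2) (R := F))).ne_zero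
    simp only [Matrix.coe_detMonoidHom, det_fin_two] at hd
    rw [← map_pow]
    refine (QuotientGroup.eq_one_iff _).mpr ?_
    rcases commute_torElt ha hb ha2 with ⟨h01, h10⟩ | ⟨h00, h11, -⟩
    · rw [h01, h10] at hd
      refine mem_center_of_scalar (c := 1) ?_
      rw [Units.val_pow_eq_pow_val, one_smul,
        show (Y : Matrix (Fin 2) (Fin 2) F) = diagonal fun i => (Y : Matrix (Fin 2) (Fin 2) F) i i from by
          ext i j; fin_cases i <;> fin_cases j <;> simp [h01, h10],
        diagonal_pow, ← diagonal_one]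
      congr 1
      funext i
      simp at hd
      fin_cases i
      · exact hunit _ hd.1
      · exact hunit _ hd.2
    · obtain ⟨l, hl⟩ := hqeven
      refine mem_center_of_scalar (c := ((Y : Matrix (Fin 2) (Fin 2) F) 0 1 * (Y : Matrix (Fin 2) (Fin 2) F) 1 0) ^ l) ?_
      rw [Units.val_pow_eq_pow_val, hl, pow_mul,
        show (Y : Matrix (Fin 2) (Fin 2) F) ^ 2 = ((Y : Matrix (Fin 2) (Fin 2) F) 0 1 * (Y : Matrix (Fin 2) (Fin 2) F) 1 0) • 1 from by
          ext i j; fin_cases i <;> fin_cases j <;> simp [pow_two, Matrix.mul_apply, Fin.sum_univ_two, h00, h11, mul_comm],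
        smul_pow, one_pow]
  let x : G := ⟨proj 2 F (torElt a ha), proj_mem_of_det_one hG (det_torElt a ha)⟩
  obtain ⟨Ax, hAx, hxA⟩ := hmc.1.2 x
  have hxq : orderOf x ∣ q - 1 := orderOf_dvd_of_pow_eq_one (Subtype.ext (by
    rw [Subgroup.coe_pow]; exact hCpow _ (Commute.refl _)))
  let K := 𝓐.filter fun A => ∃ w ∈ A, orderOf w = r
  have hAuK : ∀ o, Au o ∉ K := by
    intro o h
    obtain ⟨w, hw, hwr⟩ := (Finset.mem_filter.mp h).2
    obtain ⟨j, hj⟩ := (IsPGroup.iff_orderOf).mp (hAup o) ⟨(w : PGL 2 F), w, hw, rfl⟩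
    rw [← Subgroup.orderOf_coe] at hj
    change orderOf (w : PGL 2 F) = _ at hj
    rw [Subgroup.orderOf_coe, hwr] at hj
    exact hrp ((Nat.prime_dvd_prime_iff_eq hr hpp).mp (hr.dvd_of_dvd_pow hj.dvd))
  have hAxK : Ax ∉ K := by
    intro h
    obtain ⟨w, hw, hwr⟩ := (Finset.mem_filter.mp h).2
    have hc := commute_pPrimePart (hmc.2.2 _ hAx) hw hxA
      ((hwr ▸ hr.coprime_iff_not_dvd.mpr hrq).coprime_dvd_right hxq)
    have h1 := hCpow (w : PGL 2 F) (congrArg Subtype.val hc.eq)
    exact hrq (hwr ▸ Subgroup.orderOf_coe w ▸ orderOf_dvd_of_pow_eq_one h1)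
  have hAxAu : ∀ o, Au o ≠ Ax := by
    intro o e
    obtain ⟨j, hj⟩ := (IsPGroup.iff_orderOf).mp (hAup o) ⟨(x : PGL 2 F), x, e ▸ hxA, rfl⟩
    rw [← Subgroup.orderOf_coe] at hj
    change orderOf (x : PGL 2 F) = _ at hj
    rw [Subgroup.orderOf_coe] at hj
    have hcop : Nat.Coprime (p ^ j) (q - 1) := Nat.Coprime.pow_left j (hpp.coprime_iff_not_dvd.mpr fun hd =>
      hpp.ne_one (Nat.dvd_one.mp ((Nat.dvd_add_right hd).mp (by rwa [Nat.sub_add_cancel (by omega)]))))
    have h1 : orderOf x = 1 := Nat.eq_one_of_dvd_coprimes hcop hj.dvd hxq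
    exact proj_torElt_ne_one ha ha2 (congrArg Subtype.val (orderOf_eq_one_iff.mp h1))
  -- the competing cover
  have hle : 𝓐.card ≤ (K ∪ Finset.univ.image B).card := by
    refine hmc.2.1 _ ⟨fun A hA => ?_, fun g => ?_⟩
    · rcases Finset.mem_union.mp hA with hA | hA
      · exact hmc.1.1 A (Finset.mem_filter.mp hA).1
      · obtain ⟨o, -, rfl⟩ := Finset.mem_image.mp hA
        obtain ⟨o', ho'⟩ := exists_ne o
        exact fun e => ho' (hfix o o' (e ▸ Subgroup.mem_top _)).symm
    · obtain ⟨Y, hY⟩ := QuotientGroup.mk'_surjective (Subgroup.center (GL (Fin 2) F)) (g : PGL 2 F)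
      by_cases he : ∃ v : Fin 2 → F, v ≠ 0 ∧ ∃ c : F, (Y : Matrix (Fin 2) (Fin 2) F) *ᵥ v = c • v
      · obtain ⟨v, hv, c, hc⟩ := he
        obtain ⟨o, d, hd, rfl⟩ := exists_pt hv
        refine ⟨B o, Finset.mem_union_right _ (Finset.mem_image_of_mem B (Finset.mem_univ o)), ⟨Y, ⟨c, ?_⟩, hY⟩⟩
        rw [mulVec_smul, smul_comm] at hc
        exact smul_right_injective _ hd hc
      · set Ym : Matrix (Fin 2) (Fin 2) F := (Y : Matrix (Fin 2) (Fin 2) F) with hYm
        set f := Ym.charpoly with hf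
        have hdeg : f.natDegree = 2 := by rw [hf, charpoly_natDegree_eq_dim, Fintype.card_fin]
        have hirr : Irreducible f := by
          rw [(show f.Monic from charpoly_monic Ym).irreducible_iff_roots_eq_zero_of_degree_le_three hdeg.ge (by omega),
            Multiset.eq_zero_iff_forall_notMem]
          intro c hc
          rw [Polynomial.mem_roots (charpoly_monic Ym).ne_zero, Polynomial.IsRoot, eval_charpoly,
            ← exists_mulVec_eq_zero_iff] at hc
          obtain ⟨v, hv, hv0⟩ := hc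
          refine he ⟨v, hv, c, ?_⟩
          rw [sub_mulVec, sub_eq_zero] at hv0
          rw [← hv0, scalar_apply]
          funext i; simp [mulVec_diagonal]
        have := Fact.mk hirr
        have := (AdjoinRoot.powerBasis (charpoly_monic Ym).ne_zero).finite
        have hKfin : Finite (AdjoinRoot f) := Module.finite_of_finite F
        have hKcard : Nat.card (AdjoinRoot f) = q ^ 2 := by
          rw [Module.natCard_eq_pow_finrank (K := F),
            (AdjoinRoot.powerBasis (charpoly_monic Ym).ne_zero).finrank, AdjoinRoot.powerBasis_dim, hdeg]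
        let φ : AdjoinRoot f →ₐ[F] Matrix (Fin 2) (Fin 2) F :=
          Ideal.Quotient.liftₐ (Ideal.span {f}) (Polynomial.aeval Ym) fun a ha => by
            obtain ⟨b, rfl⟩ := Ideal.mem_span_singleton'.mp ha
            rw [map_mul, hf, aeval_self_charpoly, mul_zero]
        have hφinj : Function.Injective φ := RingHom.injective φ.toRingHom
        have hφroot : φ (AdjoinRoot.root f) = Ym := Polynomial.aeval_X Ym
        obtain ⟨k0, hk0⟩ := IsCyclic.exists_generator (α := (AdjoinRoot f)ˣ)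
        set Z : GL (Fin 2) F := Units.map φ.toMonoidHom k0 with hZ
        set z := proj 2 F Z with hz
        have hroot : AdjoinRoot.root f ≠ 0 := fun e => by
          rw [e, map_zero] at hφroot
          have := Y.isUnit
          rw [← hYm, ← hφroot] at this
          exact not_isUnit_zero this
        obtain ⟨i, hi⟩ := hk0 (Units.mk0 _ hroot)
        have hgz : (g : PGL 2 F) ∈ Subgroup.zpowers z := by
          refine ⟨i, ?_⟩
          show z ^ i = _
          rw [hz, ← map_zpow, hZ, ← map_zpow, show k0 ^ i = Units.mk0 _ hroot from hi, ← hY]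
          congr 1
          exact Units.ext hφroot
        have hz2 : z ^ 2 ∈ G := by
          set d : F := (Z : Matrix (Fin 2) (Fin 2) F).det with hddef
          have hd : d ≠ 0 := (Z.isUnit.map (Matrix.detMonoidHom (n := Fin 2) (R := F))).ne_zero
          let W : GL (Fin 2) F := GeneralLinearGroup.mkOfDetNeZero (d⁻¹ • (Z : Matrix (Fin 2) (Fin 2) F) ^ 2)
            (by rw [det_smul, det_pow, Fintype.card_fin]; exact mul_ne_zero (pow_ne_zero _ (inv_ne_zero hd)) (pow_ne_zero _ hd))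
          have hW : proj 2 F W = z ^ 2 := by
            rw [hz, ← map_pow]
            refine (QuotientGroup.eq).mpr ?_
            refine mem_center_of_scalar (c := d) ?_
            rw [Units.val_mul, ← Units.inv_mul W]
            show ((W⁻¹ : GL (Fin 2) F) : Matrix (Fin 2) (Fin 2) F) * _ = d • _
            rw [← Matrix.mul_smul, Units.val_pow_eq_pow_val]
            congr 1
            show _ = d • (d⁻¹ • (Z : Matrix (Fin 2) (Fin 2) F) ^ 2)
            rw [smul_smul, mul_inv_cancel₀ hd, one_smul]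
          rw [← hW]
          refine proj_mem_of_det_one hG ?_
          show (d⁻¹ • (Z : Matrix (Fin 2) (Fin 2) F) ^ 2).det = 1
          rw [det_smul, det_pow, Fintype.card_fin, ← hddef, ← mul_pow, inv_mul_cancel₀ hd, one_pow]
        have hrz : r ∣ orderOf z := by
          refine hrd.trans ?_
          set l := orderOf z with hl
          have h1 : proj 2 F (Z ^ l) = 1 := by rw [map_pow, ← hz, hl, pow_orderOf_eq_one]
          obtain ⟨c, hc0, hc⟩ := exists_scalar ((QuotientGroup.eq_one_iff _).mp h1)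
          have hk : ((k0 ^ l : (AdjoinRoot f)ˣ) : AdjoinRoot f) = algebraMap F _ c := hφinj (by
            rw [AlgHom.commutes, Algebra.algebraMap_eq_smul_one, ← hc, hZ, ← map_pow]; rfl)
          have hk' : k0 ^ (l * (q - 1)) = 1 := by
            apply Units.ext
            rw [pow_mul, Units.val_pow_eq_pow_val, hk, ← map_pow, hunit c hc0, map_one, Units.val_one]
          have hd := orderOf_dvd_of_pow_eq_one hk'
          rw [orderOf_eq_card_of_forall_mem_zpowers hk0, Nat.card_units, hKcard, card_sq_sub_one] at hd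
          exact Nat.dvd_of_mul_dvd_mul_right (show 0 < q - 1 by omega) hd
        let C : Subgroup G := (Subgroup.zpowers z).subgroupOf G
        let ι : C →* Subgroup.zpowers z :=
          { toFun := fun c => ⟨((c : G) : PGL 2 F), c.2⟩
            map_one' := rfl
            map_mul' := fun _ _ => rfl }
        have : IsCyclic C := isCyclic_of_injective ι
          fun c d e => Subtype.ext (Subtype.ext (congrArg (fun v : Subgroup.zpowers z => (v : PGL 2 F)) e))
        obtain ⟨y, hy⟩ := IsCyclic.exists_generator (α := C)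
        obtain ⟨A, hA, hyA⟩ := hmc.1.2 (y : G)
        have hCA : ∀ c : C, (c : G) ∈ A := fun c => by
          obtain ⟨j, rfl⟩ := hy c
          exact A.zpow_mem hyA j
        refine ⟨A, Finset.mem_union_left _ (Finset.mem_filter.mpr ⟨hA, ?_⟩), hCA ⟨g, hgz⟩⟩
        let t : G := ⟨z ^ 2, hz2⟩
        have ht : t ∈ A := hCA ⟨t, Subgroup.mem_subgroupOf.mpr (Subgroup.pow_mem _ (Subgroup.mem_zpowers z) 2)⟩
        have hrt : r ∣ orderOf t := by
          rw [← Subgroup.orderOf_coe]
          show r ∣ orderOf (z ^ 2)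
          refine ((Nat.coprime_primes hr Nat.prime_two).mpr hr2).dvd_of_dvd_mul_left (hrz.trans ?_)
          exact orderOf_dvd_of_pow_eq_one (by rw [pow_mul, pow_orderOf_eq_one])
        exact ⟨t ^ (orderOf t / r), A.pow_mem ht _, by
          rw [orderOf_pow_of_dvd (Nat.div_pos (Nat.le_of_dvd (orderOf_pos t) hrt) hr.pos).ne' (Nat.div_dvd_of_dvd hrt),
            Nat.div_div_self hrt (orderOf_pos t).ne']⟩
  have hsub : K ∪ (insert Ax (Finset.univ.image Au)) ⊆ 𝓐 := by
    intro A hA
    rcases Finset.mem_union.mp hA with h | h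
    · exact (Finset.mem_filter.mp h).1
    · rcases Finset.mem_insert.mp h with rfl | h
      · exact hAx
      · obtain ⟨o, -, rfl⟩ := Finset.mem_image.mp h; exact hAu o
  have hdis : Disjoint K (insert Ax (Finset.univ.image Au)) := by
    rw [Finset.disjoint_right]
    intro A hA
    rcases Finset.mem_insert.mp hA with rfl | hA
    · exact hAxK
    · obtain ⟨o, -, rfl⟩ := Finset.mem_image.mp hA; exact hAuK o
  have h1 := Finset.card_le_card hsub
  rw [Finset.card_union_of_disjoint hdis, Finset.card_insert_of_notMem (by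
      intro h; obtain ⟨o, -, he⟩ := Finset.mem_image.mp h; exact hAxAu o he),
    Finset.card_image_of_injective _ hAuinj] at h1
  have h2 := Finset.card_union_le K (Finset.univ.image B)
  have h3 := Finset.card_image_le (f := B) (s := (Finset.univ : Finset (Option F)))
  omega

/-- No group between `PSL_n(q)` and `PGL_n(q)` has a nilpotent minimal cover. -/
theorem no_cover (n : ℕ) (hn : 3 ≤ n ∨ (n = 2 ∧ 4 ≤ Nat.card F)) (G : Subgroup (PGL n F))
    (hG : ((Matrix.SpecialLinearGroup.toGL : Matrix.SpecialLinearGroup (Fin n) F →* GL (Fin n) F).range).map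
      (proj n F) ≤ G) : ¬ ∃ 𝓐 : Finset (Subgroup G), Cover.IsMinNilCover 𝓐 := by
  rcases hn with hn | ⟨rfl, hq⟩
  · obtain ⟨k, rfl⟩ : ∃ k, n = k + 2 := ⟨n - 2, by omega⟩
    exact no_cover_three (by omega) G hG
  by_cases h : ∃ r : ℕ, r.Prime ∧ r ≠ 2 ∧ r ∣ Nat.card F - 1
  · obtain ⟨r, hr, hr2, hrd⟩ := h
    exact no_cover_two_odd hr hr2 hrd G hG
  push Not at h
  have hodd : ∀ s : ℕ, s.Prime → s ∣ Nat.card F - 1 → s = 2 := fun s hs hd => by
    by_contra hne; exact h s hs hne hd
  have h4 : 4 ∣ Nat.card F - 1 := by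
    obtain ⟨s, hs, hsd⟩ := Nat.exists_prime_and_dvd (show Nat.card F - 1 ≠ 1 by omega)
    obtain ⟨m, hm⟩ := hodd s hs hsd ▸ hsd
    obtain ⟨t, ht, htd⟩ := Nat.exists_prime_and_dvd (show m ≠ 1 by omega)
    obtain ⟨l, hl⟩ := hodd t ht (htd.trans (hm ▸ Dvd.intro_left 2 rfl)) ▸ htd
    exact ⟨l, by omega⟩
  obtain ⟨r, hr, hrd⟩ := Nat.exists_prime_and_dvd (show (Nat.card F + 1) / 2 ≠ 1 by omega)
  have hd2 : 2 ∣ Nat.card F + 1 := by omega
  refine no_cover_two_pow hr ?_ (hrd.trans (Nat.div_dvd_of_dvd hd2)) hq hodd G hG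
  rintro rfl
  omega

end Cfsg.Agent.Cover.ProjLinear
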